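import Cfsg.Agent.Lib.Perm.CoprimeClassSizes
import Cfsg.Agent.Lib.Perm.NilpotentHall
import Cfsg.Agent.Lib.Solv.Parts

/-!
Class sizes `1, n, m, n m` with `n, m` coprime: general facts on primary elements, centralizers and
their Sylow subgroups.
-/

set_option autoImplicit false
set_option linter.style.haveILetI false

namespace Cfsg.Agent.Perm.CoprimeFour

open Cfsg.Agent.Perm.CoprimeSizes

variable {G : Type*} [Group G]

/-- `g` has `q`-power order. -/
def Prim (q : ℕ) (g : G) : Prop := ∃ k, orderOf g = q ^ k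

theorem Prim.isPGroup {q : ℕ} {g : G} (h : Prim q g) : IsPGroup q (Subgroup.zpowers g) :=
  Solv.isPGroup_zpowers h.choose_spec

theorem Prim.map {q : ℕ} {g : G} (hq : q.Prime) {H : Type*} [Group H] (f : G →* H) (h : Prim q g) :
    Prim q (f g) := by
  obtain ⟨k, hk⟩ := h
  obtain ⟨j, -, hj⟩ := (Nat.dvd_prime_pow hq).1 (hk ▸ orderOf_map_dvd f g)
  exact ⟨j, hj⟩

theorem Prim.coe {q : ℕ} {H : Subgroup G} {h : H} (hh : Prim q h) : Prim q (h : G) := by
  obtain ⟨k, hk⟩ := hh
  exact ⟨k, by rw [Subgroup.orderOf_coe]; exact hk⟩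

theorem Prim.mk {q : ℕ} {H : Subgroup G} {g : G} (hg : g ∈ H) (h : Prim q g) :
    Prim q (⟨g, hg⟩ : H) := by
  obtain ⟨k, hk⟩ := h
  exact ⟨k, by rw [Subgroup.orderOf_mk]; exact hk⟩

theorem Prim.coprime {p q : ℕ} (hp : p.Prime) (hq : q.Prime) (hne : p ≠ q) {a b : G}
    (ha : Prim p a) (hb : Prim q b) : (orderOf a).Coprime (orderOf b) := by
  obtain ⟨i, hi⟩ := ha
  obtain ⟨j, hj⟩ := hb
  rw [hi, hj]
  exact Nat.Coprime.pow i j ((Nat.coprime_primes hp hq).2 hne)

theorem Prim.coprime_prime {p q : ℕ} (hp : p.Prime) (hq : q.Prime) (hne : p ≠ q) {a : G}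
    (ha : Prim p a) : (orderOf a).Coprime q := by
  obtain ⟨i, hi⟩ := ha
  rw [hi]
  exact Nat.Coprime.pow_left i ((Nat.coprime_primes hp hq).2 hne)

theorem coprime_prim {q : ℕ} {a b : G} (ha : (orderOf a).Coprime q) (hb : Prim q b) :
    (orderOf a).Coprime (orderOf b) := by
  obtain ⟨j, hj⟩ := hb
  rw [hj]
  exact ha.pow_right j

theorem eq_one_of_prim_coprime {q : ℕ} {a : G} (h1 : Prim q a) (h2 : (orderOf a).Coprime q) : a = 1 := by
  obtain ⟨k, hk⟩ := h1
  exact orderOf_eq_one_iff.1 (Nat.eq_one_of_dvd_coprimes (h2.pow_right k) dvd_rfl (dvd_of_eq hk))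

theorem comm_of_mem_cent {g h : G} (hh : h ∈ cent g) : h * g = g * h := mem_cent.1 hh

theorem self_mem_center_cent (g : G) : (⟨g, self_mem_cent g⟩ : cent g) ∈ Subgroup.center (cent g) :=
  Subgroup.mem_center_iff.2 fun a => Subtype.ext (mem_cent.1 a.2)

theorem cent_subgroupOf (H : Subgroup G) (h : H) : cent h = (cent (h : G)).subgroupOf H := by
  ext a
  rw [mem_cent, Subgroup.mem_subgroupOf, mem_cent, Subtype.ext_iff]
  rfl

theorem cls_subgroup (H : Subgroup G) (h : H) : cls h = (cent (h : G)).relIndex H := by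
  show (cent h).index = _
  rw [cent_subgroupOf]; rfl

theorem cent_conj (g k : G) : cent (k * g * k⁻¹) = (cent g).map (MulAut.conj k).toMonoidHom := by
  ext a
  rw [cent_conj_mem]
  constructor
  · exact fun h => ⟨_, h, by simp [mul_assoc]⟩
  · rintro ⟨b, hb, rfl⟩
    simpa [mul_assoc] using hb

section Fin

variable [Finite G]

theorem cls_dvd {a b : G} (h : cent a ≤ cent b) : cls b ∣ cls a := Subgroup.index_dvd_of_le h

theorem card_fac (H : Subgroup G) (p : ℕ) :
    (Nat.card H).factorization p + H.index.factorization p = (Nat.card G).factorization p := by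
  rw [← H.card_mul_index, Nat.factorization_mul Nat.card_pos.ne' Subgroup.index_ne_zero_of_finite,
    Finsupp.add_apply]

theorem fac_mono {H K : Subgroup G} (h : H ≤ K) (p : ℕ) :
    (Nat.card H).factorization p ≤ (Nat.card K).factorization p :=
  (Nat.factorization_le_iff_dvd Nat.card_pos.ne' Nat.card_pos.ne').2 (Subgroup.card_dvd_of_le h) p

theorem card_eq_of_fac (H K : Subgroup G)
    (h : ∀ p : ℕ, p.Prime → (Nat.card H).factorization p = (Nat.card K).factorization p) :
    Nat.card H = Nat.card K := by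
  refine Nat.eq_of_factorization_eq Nat.card_pos.ne' Nat.card_pos.ne' fun p => ?_
  by_cases hp : p.Prime
  · exact h p hp
  · rw [Nat.factorization_eq_zero_of_not_prime _ hp, Nat.factorization_eq_zero_of_not_prime _ hp]

theorem eq_of_le_of_fac {H K : Subgroup G} (hle : H ≤ K)
    (h : ∀ p : ℕ, p.Prime → (Nat.card K).factorization p ≤ (Nat.card H).factorization p) : H = K :=
  Subgroup.eq_of_le_of_card_ge hle (le_of_eq
    (card_eq_of_fac K H fun p hp => le_antisymm (h p hp) (fac_mono hle p)))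

/-- A subgroup whose `p`-part exceeds that of `Z` has a `p`-element outside `Z`. -/
theorem exists_prim_notMem {p : ℕ} [hp : Fact p.Prime] (Z H : Subgroup G)
    (h : (Nat.card Z).factorization p < (Nat.card H).factorization p) :
    ∃ e ∈ H, Prim p e ∧ e ∉ Z := by
  by_contra hne
  push Not at hne
  obtain ⟨P⟩ : Nonempty (Sylow p H) := inferInstance
  have hle : (P : Subgroup H).map H.subtype ≤ Z := by
    rintro _ ⟨x, hx, rfl⟩
    obtain ⟨k, hk⟩ := IsPGroup.iff_orderOf.1 P.isPGroup' ⟨x, hx⟩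
    exact hne _ x.2 (Prim.coe (H := H) ⟨k, (Subgroup.orderOf_mk x hx).symm.trans hk⟩)
  have h1 := fac_mono hle p
  rw [Subgroup.card_map_of_injective H.subtype_injective, P.card_eq_multiplicity,
    Nat.Prime.factorization_pow hp.out, Finsupp.single_eq_same] at h1
  omega

/-- Conversely. -/
theorem mem_of_fac_le {p : ℕ} [hp : Fact p.Prime] {Z H : Subgroup G} [Z.Normal] (hZH : Z ≤ H)
    (h : (Nat.card H).factorization p ≤ (Nat.card Z).factorization p) {e : G} (he : e ∈ H)
    (hep : Prim p e) : e ∈ Z := by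
  have hu : QuotientGroup.mk' Z e ∈ H.map (QuotientGroup.mk' Z) := Subgroup.mem_map_of_mem _ he
  have hcard : Nat.card (H.map (QuotientGroup.mk' Z)) * Nat.card Z = Nat.card H := by
    have h2 := Subgroup.relIndex_ker (f := QuotientGroup.mk' Z) (K := H)
    rw [QuotientGroup.ker_mk'] at h2
    rw [← h2, mul_comm, ← Subgroup.relIndex_bot_left, ← Subgroup.relIndex_bot_left]
    exact Subgroup.relIndex_mul_relIndex _ _ _ bot_le hZH
  have hp0 : (Nat.card (H.map (QuotientGroup.mk' Z))).factorization p = 0 := by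
    rw [← hcard, Nat.factorization_mul Nat.card_pos.ne' Nat.card_pos.ne', Finsupp.add_apply] at h
    omega
  have hnd : ¬ p ∣ Nat.card (H.map (QuotientGroup.mk' Z)) := fun hd => by
    have := hp.out.factorization_pos_of_dvd Nat.card_pos.ne' hd
    omega
  have h3 : (orderOf (QuotientGroup.mk' Z e)) ∣ Nat.card (H.map (QuotientGroup.mk' Z)) := by
    rw [← Subgroup.orderOf_mk _ hu]; exact orderOf_dvd_natCard _
  exact (QuotientGroup.eq_one_iff e).1 (eq_one_of_prim_coprime (Prim.map hp.out (QuotientGroup.mk' Z) hep)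
    (((hp.out.coprime_iff_not_dvd.2 hnd).symm).coprime_dvd_left h3))

/-- A subgroup containing a Sylow subgroup of every prime is the whole group. -/
theorem eq_top_of_sylows (H : Subgroup G)
    (h : ∀ p : ℕ, p.Prime → p ∣ Nat.card G → ∃ P : Sylow p G, (P : Subgroup G) ≤ H) : H = ⊤ := by
  refine eq_of_le_of_fac le_top fun p hp => ?_
  haveI := Fact.mk hp
  rw [Subgroup.card_top]
  by_cases hd : p ∣ Nat.card G
  · obtain ⟨P, hP⟩ := h p hp hd
    have := fac_mono hP p
    rwa [P.card_eq_multiplicity, Nat.Prime.factorization_pow hp, Finsupp.single_eq_same] at this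
  · rw [Nat.factorization_eq_zero_of_not_dvd hd]; exact Nat.zero_le _

theorem prim_of_mem_sylow {p : ℕ} [Fact p.Prime] (P : Sylow p G) {x : G} (hx : x ∈ (P : Subgroup G)) :
    Prim p x := by
  obtain ⟨k, hk⟩ := IsPGroup.iff_orderOf.1 P.isPGroup' ⟨x, hx⟩
  exact ⟨k, by rw [← hk, Subgroup.orderOf_mk]⟩

theorem exists_sylow_of_prim {p : ℕ} [Fact p.Prime] {x : G} (hx : Prim p x) :
    ∃ P : Sylow p G, x ∈ (P : Subgroup G) := by
  obtain ⟨P, hP⟩ := hx.isPGroup.exists_le_sylow
  exact ⟨P, hP (Subgroup.mem_zpowers x)⟩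

/-- A `p`-element whose class size is prime to `p` lies in a Sylow subgroup it centralizes. -/
theorem exists_sylow_central {p : ℕ} [Fact p.Prime] {x : G} (hx : Prim p x) (h : ¬ p ∣ cls x) :
    ∃ P : Sylow p G, (P : Subgroup G) ≤ cent x ∧ x ∈ (P : Subgroup G) := by
  obtain ⟨P, hP⟩ := NilpotentHall.exists_sylow_le h
  refine ⟨P, hP, ?_⟩
  have hn : Subgroup.zpowers x ≤ Subgroup.normalizer ((P : Subgroup G) : Set G) := fun u hu =>
    Subgroup.centralizer_le_normalizer _ (Subgroup.mem_centralizer_iff.2 fun a ha =>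
      mem_cent.1 (cent_le_of_mem_zpowers hu (hP ha)))
  have hpg := P.isPGroup'.to_sup_of_normal_left' hx.isPGroup hn
  exact (P.is_maximal' hpg le_sup_left) ▸ Subgroup.mem_sup_right (Subgroup.mem_zpowers x)

/-- If no class size is divisible by `p` then the `p`-elements are central. -/
theorem central_of_not_dvd {p : ℕ} [Fact p.Prime] (h : ∀ g : G, ¬ p ∣ cls g) {x : G} (hx : Prim p x) :
    x ∈ Subgroup.center G := by
  obtain ⟨P, hxP⟩ := exists_sylow_of_prim hx
  have htop : Subgroup.centralizer ((P : Subgroup G) : Set G) = ⊤ := by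
    refine Solv.eq_top_of_forall_conj_mem _ fun g => ?_
    obtain ⟨Q, hQ⟩ := NilpotentHall.exists_sylow_le (h g)
    obtain ⟨k, hk⟩ := MulAction.exists_smul_eq G Q P
    refine ⟨k, Subgroup.mem_centralizer_iff.2 fun a ha => ?_⟩
    rw [← hk, Sylow.coe_subgroup_smul] at ha
    obtain ⟨b, hb, rfl⟩ := ha
    have e := mem_cent.1 (hQ hb)
    simp only [MulDistribMulAction.toMonoidEnd_apply, MulDistribMulAction.toMonoidHom_apply,
      MulAut.smul_def, MulAut.conj_apply]
    calc k * b * k⁻¹ * (k * g * k⁻¹) = k * (b * g) * k⁻¹ := by group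
      _ = k * (g * b) * k⁻¹ := by rw [e]
      _ = k * g * k⁻¹ * (k * b * k⁻¹) := by group
  exact Subgroup.mem_center_iff.2 fun g => (Subgroup.mem_centralizer_iff.1
    (htop.symm ▸ Subgroup.mem_top g) x hxP).symm

/-- An element is conjugate to one commuting with a `p`-element, when `p` does not divide its class. -/
theorem exists_conj_comm {p : ℕ} [Fact p.Prime] {x y : G} (hx : Prim p x) (hy : ¬ p ∣ cls y) :
    ∃ g : G, x ∈ cent (g * y * g⁻¹) := by
  obtain ⟨P, hxP⟩ := exists_sylow_of_prim hx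
  obtain ⟨Q, hQ⟩ := NilpotentHall.exists_sylow_le hy
  obtain ⟨k, hk⟩ := MulAction.exists_smul_eq G Q P
  refine ⟨k, ?_⟩
  rw [← hk, Sylow.coe_subgroup_smul] at hxP
  obtain ⟨b, hb, rfl⟩ := hxP
  rw [cent_conj]
  exact ⟨b, hQ hb, rfl⟩

end Fin

end Cfsg.Agent.Perm.CoprimeFour
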