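import Mathlib

/-!
A group acting semiregularly on an abelian group has no partition into nontrivial subgroups of
coprime size: two consequences.
-/

set_option autoImplicit false
set_option linter.style.haveILetI false

open scoped Classical

namespace Cfsg.Agent.Perm.CoprimeFour

variable {V X : Type*} [CommGroup V] [Group X] [Fintype X] (ρ : X →* MulAut V) (Z0 : Subgroup V)

/-- The basic identity. -/
theorem partition_pow_mem (hfix : ∀ x : X, x ≠ 1 → ∀ v, ρ x v = v → v ∈ Z0)
    (S : Finset (Subgroup X)) (hne : ∀ H ∈ S, H ≠ ⊥) (hS : S.Nonempty) (hX : ∃ x : X, x ≠ 1)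
    (hpart : ∀ x : X, x ≠ 1 → (S.filter fun H => x ∈ H).card = 1) (v : V) :
    v ^ (S.card - 1) ∈ Z0 := by
  have hprod : ∀ H : Subgroup X, H ≠ ⊥ → (∏ x ∈ Finset.univ.filter (· ∈ H), ρ x v) ∈ Z0 := by
    intro H hH
    obtain ⟨h0, hh0, hne0⟩ := (Subgroup.bot_or_exists_ne_one H).resolve_left hH
    refine hfix h0 hne0 _ ?_
    rw [map_prod]
    refine Finset.prod_bij (fun x _ => h0 * x) ?_ ?_ ?_ ?_
    · intro x hx
      simpa using H.mul_mem hh0 (by simpa using hx)
    · exact fun a _ b _ h => mul_left_cancel h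
    · intro b hb
      exact ⟨h0⁻¹ * b, by simpa using H.mul_mem (H.inv_mem hh0) (by simpa using hb), by group⟩
    · intro x _
      rw [map_mul]; rfl
  have hall : (∏ x : X, ρ x v) ∈ Z0 := by
    have h := hprod ⊤ (by
      obtain ⟨x, hx⟩ := hX
      exact fun h => hx (Subgroup.mem_bot.1 (h ▸ Subgroup.mem_top x)))
    simpa using h
  have h1 : (∏ H ∈ S, ∏ x ∈ Finset.univ.filter (· ∈ H), ρ x v) ∈ Z0 :=
    Subgroup.prod_mem Z0 fun H hH => hprod H (hne H hH)
  have h2 : (∏ H ∈ S, ∏ x ∈ Finset.univ.filter (· ∈ H), ρ x v) =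
      v ^ (S.card - 1) * ∏ x : X, ρ x v := by
    simp only [Finset.prod_filter]
    rw [Finset.prod_comm]
    simp only [← Finset.prod_filter, Finset.prod_const]
    rw [← Finset.mul_prod_erase Finset.univ _ (Finset.mem_univ (1 : X)),
      ← Finset.mul_prod_erase Finset.univ (fun x => ρ x v) (Finset.mem_univ (1 : X)), ← mul_assoc]
    congr 1
    · simp only [map_one, MulAut.one_apply, Subgroup.one_mem, Finset.filter_true]
      rw [← pow_succ, Nat.sub_add_cancel hS.card_pos]
    · refine Finset.prod_congr rfl fun x hx => ?_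
      rw [hpart x (Finset.ne_of_mem_erase hx), pow_one]
  rw [h2] at h1
  exact (Subgroup.mul_mem_cancel_right Z0 hall).1 h1

/-- No `q × q` acts semiregularly. -/
theorem elementary_pow_mem (hfix : ∀ x : X, x ≠ 1 → ∀ v, ρ x v = v → v ∈ Z0) {q : ℕ} (hq : q.Prime)
    (hcard : Nat.card X = q ^ 2) (hexp : ∀ x : X, x ^ q = 1) (v : V) : v ^ q ∈ Z0 := by
  haveI := Fact.mk hq
  set S := Finset.univ.filter fun H : Subgroup X => Nat.card H = q with hS
  have hmem : ∀ H : Subgroup X, H ∈ S ↔ Nat.card H = q := by simp [hS]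
  have hpart : ∀ x : X, x ≠ 1 → (S.filter fun H => x ∈ H).card = 1 := by
    intro x hx
    refine Finset.card_eq_one.2 ⟨Subgroup.zpowers x, ?_⟩
    have ho : orderOf x = q := orderOf_eq_prime (hexp x) hx
    ext H
    simp only [Finset.mem_filter, hmem, Finset.mem_singleton]
    constructor
    · rintro ⟨hH, hxH⟩
      refine (Subgroup.eq_of_le_of_card_ge (Subgroup.zpowers_le.2 hxH) ?_).symm
      rw [Nat.card_zpowers, ho, hH]
    · rintro rfl
      exact ⟨by rw [Nat.card_zpowers, ho], Subgroup.mem_zpowers x⟩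
  have hne : ∀ H ∈ S, H ≠ ⊥ := by
    intro H hH h
    have := (hmem H).1 hH
    rw [h, Subgroup.card_bot] at this
    exact hq.one_lt.ne this
  have hcount : S.card * q = S.card + (q ^ 2 - 1) := by
    have h1 : ∑ H ∈ S, (Finset.univ.filter (· ∈ H)).card = S.card * q := by
      rw [Finset.sum_const_nat]
      intro H hH
      rw [← (hmem H).1 hH, Nat.card_eq_fintype_card, Fintype.card_subtype]
    rw [← h1]
    simp only [Finset.card_filter]
    rw [Finset.sum_comm]
    simp only [← Finset.card_filter]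
    rw [← Finset.add_sum_erase Finset.univ _ (Finset.mem_univ (1 : X)),
      Finset.sum_congr rfl fun x hx => hpart x (Finset.ne_of_mem_erase hx), Finset.sum_const,
      smul_eq_mul, mul_one, Finset.card_erase_of_mem (Finset.mem_univ _), Finset.card_univ,
      ← Nat.card_eq_fintype_card, hcard]
    simp
  have hc : S.card = q + 1 := by
    have h2 := hq.two_le
    have h4 : 4 ≤ q ^ 2 := by nlinarith
    have h3 : q ^ 2 - 1 + 1 = q ^ 2 := Nat.sub_add_cancel (by omega)
    zify at hcount h3 ⊢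
    generalize (((q ^ 2 - 1 : ℕ)) : ℤ) = d at hcount h3
    have : ((S.card : ℤ) - (q + 1)) * ((q : ℤ) - 1) = 0 := by linear_combination hcount + h3
    rcases mul_eq_zero.1 this with h | h
    · linarith
    · exfalso; have : (2 : ℤ) ≤ q := by exact_mod_cast h2
      linarith
  have hX : ∃ x : X, x ≠ 1 := by
    by_contra hno
    push Not at hno
    haveI : Subsingleton X := ⟨fun a b => by rw [hno a, hno b]⟩
    rw [Nat.card_of_subsingleton (1 : X)] at hcard
    nlinarith [hq.two_le]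
  have h := partition_pow_mem ρ Z0 hfix S hne (Finset.card_pos.1 (by omega)) hX hpart v
  rwa [hc, Nat.add_sub_cancel] at h

/-- No Frobenius group acts semiregularly. -/
theorem frobenius_pow_mem (hfix : ∀ x : X, x ≠ 1 → ∀ v, ρ x v = v → v ∈ Z0)
    (M : Subgroup X) [M.Normal] (hM : M ≠ ⊥) (g : X) {ℓ : ℕ} (hℓ : ℓ.Prime) (hg : orderOf g = ℓ)
    (hgen : M ⊔ Subgroup.zpowers g = ⊤) (hC : ∀ m ∈ M, m * g = g * m → m = 1) (v : V) :
    v ^ Nat.card M ∈ Z0 := by
  haveI := Fact.mk hℓ
  have hzc : Nat.card (Subgroup.zpowers g) = ℓ := by rw [Nat.card_zpowers, hg]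
  have hg1 : g ≠ 1 := fun h => hℓ.one_lt.ne (by rw [← hg, h, orderOf_one])
  have hgM : g ∉ M := fun h => hg1 (hC g h rfl)
  have hgen' : ∀ u ∈ Subgroup.zpowers g, u ≠ 1 → Subgroup.zpowers u = Subgroup.zpowers g := by
    intro u hu hu1
    refine Subgroup.eq_of_le_of_card_ge (Subgroup.zpowers_le.2 hu) ?_
    rw [hzc, Nat.card_zpowers]
    have hd : orderOf u ∣ ℓ := hzc ▸ by
      rw [← Subgroup.orderOf_mk _ hu]; exact orderOf_dvd_natCard _
    rcases (Nat.dvd_prime hℓ).1 hd with h | h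
    · exact absurd (orderOf_eq_one_iff.1 h) hu1
    · exact h.ge
  have hcomm : ∀ m ∈ M, ∀ u ∈ Subgroup.zpowers g, u ≠ 1 → m * u = u * m → m = 1 := by
    intro m hm u hu hu1 h
    obtain ⟨i, hi⟩ := Subgroup.mem_zpowers_iff.1
      ((hgen' u hu hu1).symm ▸ Subgroup.mem_zpowers g : g ∈ Subgroup.zpowers u)
    exact hC m hm (by rw [← hi]; exact ((show Commute m u from h).zpow_right i).eq)
  -- the conjugates of `g`
  let cz : M → Subgroup X := fun m => (Subgroup.zpowers g).map (MulAut.conj (m : X)).toMonoidHom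
  have hcz : ∀ (m : M) (x : X), x ∈ cz m ↔ (m : X)⁻¹ * x * m ∈ Subgroup.zpowers g := by
    intro m x
    constructor
    · rintro ⟨u, hu, rfl⟩
      simpa [mul_assoc] using hu
    · exact fun h => ⟨_, h, by simp [mul_assoc]⟩
  have hczM : ∀ (m : M) (x : X), x ∈ cz m → x ∈ M → x = 1 := by
    intro m x hx hxM
    by_contra hx1
    have hu : (m : X)⁻¹ * x * m ∈ M := M.mul_mem (M.mul_mem (M.inv_mem m.2) hxM) m.2
    have hu1 : (m : X)⁻¹ * x * m ≠ 1 := fun h => hx1 (by
      calc x = (m : X) * ((m : X)⁻¹ * x * m) * (m : X)⁻¹ := by group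
        _ = 1 := by rw [h]; group)
    exact hgM ((Subgroup.zpowers_le.2 hu)
      ((hgen' _ ((hcz m x).1 hx) hu1).symm ▸ Subgroup.mem_zpowers g))
  have hcz2 : ∀ (m m' : M) (x : X), x ≠ 1 → x ∈ cz m → x ∈ cz m' → m = m' := by
    intro m m' x hx1 hm hm'
    set u := (m : X)⁻¹ * x * m with hu
    set u' := (m' : X)⁻¹ * x * m' with hu'
    have huz := (hcz m x).1 hm
    have hu'z := (hcz m' x).1 hm'
    have hu1 : u ≠ 1 := fun h => hx1 (by
      calc x = (m : X) * u * (m : X)⁻¹ := by rw [hu]; group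
        _ = 1 := by rw [h]; group)
    set a := (m' : X)⁻¹ * m with ha
    have haM : a ∈ M := M.mul_mem (M.inv_mem m'.2) m.2
    have e : a * u * a⁻¹ = u' := by rw [ha, hu, hu']; group
    have h1 : u' * u⁻¹ ∈ M := by
      rw [← e, mul_assoc, mul_assoc]
      exact M.mul_mem haM (by rw [← mul_assoc]; exact Subgroup.Normal.conj_mem inferInstance _ (M.inv_mem haM) u)
    have h2 : u' * u⁻¹ ∈ Subgroup.zpowers g := Subgroup.mul_mem _ hu'z (Subgroup.inv_mem _ huz)
    have h3 : u' * u⁻¹ = 1 := by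
      by_contra h3
      exact hgM ((Subgroup.zpowers_le.2 h1) ((hgen' _ h2 h3).symm ▸ Subgroup.mem_zpowers g))
    have h4 : a = 1 := hcomm a haM u huz hu1 (by
      rw [mul_inv_eq_one.1 h3] at e
      calc a * u = a * u * a⁻¹ * a := by group
        _ = u * a := by rw [e])
    exact Subtype.ext (inv_mul_eq_one.1 h4).symm
  have hcover : ∀ x : X, x ∉ M → ∃ m : M, x ∈ cz m := by
    intro x hx
    obtain ⟨m, hm, u, hu, rfl⟩ : ∃ m ∈ M, ∃ u ∈ Subgroup.zpowers g, m * u = x :=
      Subgroup.mem_sup_of_normal_left.1 (hgen.symm ▸ Subgroup.mem_top x)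
    have hu1 : u ≠ 1 := fun h => hx (by rw [h, mul_one]; exact hm)
    let f : M → M := fun a => ⟨(a : X) * u * (a : X)⁻¹ * u⁻¹, by
      rw [mul_assoc (a : X), mul_assoc (a : X)]
      exact M.mul_mem a.2 (Subgroup.Normal.conj_mem inferInstance _ (M.inv_mem a.2) u)⟩
    have hinj : Function.Injective f := by
      intro a b hab
      have e : (a : X) * u * (a : X)⁻¹ * u⁻¹ = (b : X) * u * (b : X)⁻¹ * u⁻¹ := congrArg Subtype.val hab
      have e1 : (a : X) * u * (a : X)⁻¹ = (b : X) * u * (b : X)⁻¹ := mul_right_cancel e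
      have h4 : (b : X)⁻¹ * a = 1 := hcomm _ (M.mul_mem (M.inv_mem b.2) a.2) u hu hu1 (by
        calc (b : X)⁻¹ * a * u = (b : X)⁻¹ * ((a : X) * u * (a : X)⁻¹) * a := by group
          _ = u * ((b : X)⁻¹ * a) := by rw [e1]; group)
      exact Subtype.ext (inv_mul_eq_one.1 h4).symm
    obtain ⟨a, ha⟩ := (Finite.injective_iff_surjective.1 hinj) ⟨m, hm⟩
    have e : (a : X) * u * (a : X)⁻¹ * u⁻¹ = m := congrArg Subtype.val ha
    refine ⟨a, (hcz a _).2 ?_⟩
    rw [← e]
    convert hu using 1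
    group
  -- the family
  set S := insert M (Finset.univ.image cz) with hS
  have hczne : ∀ m, cz m ≠ ⊥ := fun m h => by
    rw [Subgroup.map_eq_bot_iff_of_injective _ (MulAut.conj (m : X)).injective,
      Subgroup.zpowers_eq_bot] at h
    exact hg1 h
  have hMnot : M ∉ Finset.univ.image cz := by
    intro h
    obtain ⟨m, -, hm⟩ := Finset.mem_image.1 h
    obtain ⟨x, hx, hx1⟩ := (Subgroup.bot_or_exists_ne_one M).resolve_left hM
    exact hx1 (hczM m x (hm.symm ▸ hx) hx)
  have hinjcz : Function.Injective cz := fun m m' h => by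
    obtain ⟨x, hx, hx1⟩ := (Subgroup.bot_or_exists_ne_one (cz m)).resolve_left (hczne m)
    exact hcz2 m m' x hx1 hx (h ▸ hx)
  have hScard : S.card = Nat.card M + 1 := by
    rw [hS, Finset.card_insert_of_notMem hMnot, Finset.card_image_of_injective _ hinjcz,
      Finset.card_univ, Nat.card_eq_fintype_card]
  have hne : ∀ H ∈ S, H ≠ ⊥ := by
    intro H hH
    rcases Finset.mem_insert.1 hH with rfl | hH
    · exact hM
    · obtain ⟨m, -, rfl⟩ := Finset.mem_image.1 hH
      exact hczne m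
  have hpart : ∀ x : X, x ≠ 1 → (S.filter fun H => x ∈ H).card = 1 := by
    intro x hx
    refine Finset.card_eq_one.2 ?_
    by_cases hxM : x ∈ M
    · refine ⟨M, Finset.ext fun H => ?_⟩
      simp only [Finset.mem_filter, hS, Finset.mem_insert, Finset.mem_image, Finset.mem_univ,
        true_and, Finset.mem_singleton]
      constructor
      · rintro ⟨rfl | ⟨m, rfl⟩, h⟩
        · rfl
        · exact absurd (hczM m x h hxM) hx
      · rintro rfl; exact ⟨Or.inl rfl, hxM⟩
    · obtain ⟨m, hm⟩ := hcover x hxM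
      refine ⟨cz m, Finset.ext fun H => ?_⟩
      simp only [Finset.mem_filter, hS, Finset.mem_insert, Finset.mem_image, Finset.mem_univ,
        true_and, Finset.mem_singleton]
      constructor
      · rintro ⟨rfl | ⟨m', rfl⟩, h⟩
        · exact absurd h hxM
        · rw [hcz2 m' m x hx h hm]
      · rintro rfl; exact ⟨Or.inr ⟨m, rfl⟩, hm⟩
  have h := partition_pow_mem ρ Z0 hfix S hne (Finset.card_pos.1 (by omega)) ⟨g, hg1⟩ hpart v
  rwa [hScard, Nat.add_sub_cancel] at h

end Cfsg.Agent.Perm.CoprimeFour
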