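import Cfsg.Agent.Lib.Perm.CoprimeFour.Basic
import Cfsg.Agent.Lib.Perm.CoprimeFour.Partition
import Cfsg.Agent.Lib.Perm.Kazarin
import Cfsg.Agent.Lib.Fusion.Cores

/-!
A group in which every `r'`-element has class size `1` or `n`, with a noncentral element of some
further prime order not dividing `n`: then `n` is a power of `r`.
-/

set_option autoImplicit false
set_option linter.style.haveILetI false

namespace Cfsg.Agent.Perm.CoprimeFour

open Cfsg.Agent.Perm.CoprimeSizes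

universe u

/-- The standing data. -/
structure Core (K : Type u) [Group K] (r n t q : ℕ) : Prop where
  hr : r.Prime
  hn : 1 < n
  ht : t.Prime
  hq : q.Prime
  htr : t ≠ r
  hqr : q ≠ r
  htn : ¬ t ∣ n
  hqn : q ∣ n
  reg : ∀ h : K, (orderOf h).Coprime r → cls h = 1 ∨ cls h = n
  exT : ∃ z : K, Prim t z ∧ z ∉ Subgroup.center K

variable {K : Type u} [Group K] {r n t q : ℕ}

/-- A noncentral primary element of order prime to `r`. -/
def Good (r : ℕ) (e : K) : Prop := ∃ p : ℕ, p.Prime ∧ p ≠ r ∧ Prim p e ∧ e ∉ Subgroup.center K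

namespace Core

variable (h : Core K r n t q)
include h

theorem htq : t ≠ q := fun e => h.htn (e ▸ h.hqn)

variable [Finite K]

theorem cls_good {e : K} (he : Good r e) : cls e = n := by
  obtain ⟨p, hp, hpr, hpe, heZ⟩ := he
  exact (h.reg e (hpe.coprime_prime hp h.hr hpr)).resolve_left fun e1 => heZ (cls_eq_one_iff.1 e1)

theorem merge {p p' : ℕ} (hp : p.Prime) (hp' : p'.Prime) (hpr : p ≠ r) (hpr' : p' ≠ r)
    (hne : p ≠ p') {a b : K} (ha : Prim p a) (hb : Prim p' b) (haZ : a ∉ Subgroup.center K)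
    (hbZ : b ∉ Subgroup.center K) (hab : b ∈ cent a) : cent b = cent a := by
  have hcomm : Commute a b := (mem_cent.1 hab).symm
  have hcop := ha.coprime hp hp' hne hb
  have hc := cent_mul_of_coprime hcomm.eq hcop
  have hA := h.cls_good ⟨p, hp, hpr, ha, haZ⟩
  have hB := h.cls_good ⟨p', hp', hpr', hb, hbZ⟩
  have hdvd : cls a ∣ cls (a * b) := cls_dvd (hc ▸ inf_le_left)
  have hcls : cls (a * b) = n := by
    refine (h.reg _ ?_).resolve_left fun e1 => ?_
    · rw [hcomm.orderOf_mul_eq_mul_orderOf_of_coprime hcop]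
      exact Nat.Coprime.mul_left (ha.coprime_prime hp h.hr hpr) (hb.coprime_prime hp' h.hr hpr')
    · rw [hA, e1] at hdvd
      exact absurd (Nat.dvd_one.1 hdvd) (Nat.ne_of_gt h.hn)
  have e1 : cent a = cent (a * b) := cent_eq_of_le (hc ▸ inf_le_left) (by rw [hA, hcls])
  have e2 : cent b = cent (a * b) := cent_eq_of_le (hc ▸ inf_le_right) (by rw [hB, hcls])
  rw [e1, e2]

theorem fac_good {e e' : K} (he : Good r e) (he' : Good r e') (p : ℕ) :
    (Nat.card (cent e)).factorization p = (Nat.card (cent e')).factorization p := by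
  have h1 := card_fac (cent e) p
  have h2 := card_fac (cent e') p
  rw [show (cent e).index = n from h.cls_good he] at h1
  rw [show (cent e').index = n from h.cls_good he'] at h2
  omega

theorem fac_center_lt {p : ℕ} (hp : p.Prime) (hpr : p ≠ r) {e w : K} (he : Good r e) (hw : Prim p w)
    (hwZ : w ∉ Subgroup.center K) :
    (Nat.card (Subgroup.center K)).factorization p < (Nat.card (cent e)).factorization p := by
  haveI := Fact.mk hp
  rw [h.fac_good he ⟨p, hp, hpr, hw, hwZ⟩]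
  by_contra hle
  push Not at hle
  exact hwZ (mem_of_fac_le (center_le_cent w) hle (self_mem_cent w) hw)

theorem exists_mem {p : ℕ} (hp : p.Prime) (hpr : p ≠ r) {e : K} (he : Good r e)
    (hex : ∃ w : K, Prim p w ∧ w ∉ Subgroup.center K) :
    ∃ f ∈ cent e, Prim p f ∧ f ∉ Subgroup.center K := by
  obtain ⟨w, hw, hwZ⟩ := hex
  haveI := Fact.mk hp
  exact exists_prim_notMem _ _ (h.fac_center_lt hp hpr he hw hwZ)

theorem exQ : ∃ w : K, Prim q w ∧ w ∉ Subgroup.center K := by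
  haveI := Fact.mk h.hq
  obtain ⟨z, hz, hzZ⟩ := h.exT
  by_contra hno
  push Not at hno
  have hcz : cls z = n := h.cls_good ⟨t, h.ht, h.htr, hz, hzZ⟩
  obtain ⟨P⟩ : Nonempty (Sylow q K) := inferInstance
  have hle : (P : Subgroup K) ≤ cent z := fun x hx =>
    center_le_cent z (hno x (prim_of_mem_sylow P hx))
  exact P.not_dvd_index (h.hqn.trans (hcz ▸ Subgroup.index_dvd_of_le hle))

/-- Every noncentral primary `r'`-element of such a centralizer has the same centralizer. -/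
theorem cent_eq {e k : K} (he : Good r e) (hk : Good r k) (hke : k ∈ cent e) : cent k = cent e := by
  obtain ⟨p, hp, hpr, hpe, heZ⟩ := id he
  obtain ⟨p', hp', hpr', hpk, hkZ⟩ := id hk
  by_cases hne : p = p'
  · subst hne
    obtain ⟨p₂, hp₂, hpr₂, hne₂, hex⟩ : ∃ p₂ : ℕ, p₂.Prime ∧ p₂ ≠ r ∧ p ≠ p₂ ∧
        ∃ w : K, Prim p₂ w ∧ w ∉ Subgroup.center K := by
      by_cases hpt : p = t
      · exact ⟨q, h.hq, h.hqr, hpt ▸ h.htq, h.exQ⟩
      · exact ⟨t, h.ht, h.htr, hpt, h.exT⟩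
    obtain ⟨f, hf, hpf, hfZ⟩ := h.exists_mem hp₂ hpr₂ he hex
    have e1 := h.merge hp hp₂ hpr hpr₂ hne₂ hpe hpf heZ hfZ hf
    rw [← e1]
    exact h.merge hp₂ hp hpr₂ hpr hne₂.symm hpf hpk hfZ hkZ (e1 ▸ hke)
  · exact h.merge hp hp' hpr hpr' hne hpe hpk heZ hkZ hke

theorem central_in {e k : K} (he : Good r e) {p : ℕ} (hp : p.Prime) (hpr : p ≠ r) (hk : Prim p k)
    (hke : k ∈ cent e) {c : K} (hc : c ∈ cent e) : c * k = k * c := by
  by_cases hkZ : k ∈ Subgroup.center K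
  · exact Subgroup.mem_center_iff.1 hkZ c
  · rw [← h.cent_eq he ⟨p, hp, hpr, hk, hkZ⟩ hke] at hc
    exact mem_cent.1 hc

theorem conj {e₁ e₂ : K} (he₁ : Good r e₁) (he₂ : Good r e₂) :
    ∃ g : K, cent e₂ = (cent e₁).map (MulAut.conj g).toMonoidHom := by
  haveI := Fact.mk h.ht
  obtain ⟨f₁, hf₁, hpf₁, hfZ₁⟩ := h.exists_mem h.ht h.htr he₁ h.exT
  obtain ⟨f₂, hf₂, hpf₂, hfZ₂⟩ := h.exists_mem h.ht h.htr he₂ h.exT
  have g₁ : Good r f₁ := ⟨t, h.ht, h.htr, hpf₁, hfZ₁⟩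
  have g₂ : Good r f₂ := ⟨t, h.ht, h.htr, hpf₂, hfZ₂⟩
  obtain ⟨T₁, hT₁, hfT₁⟩ := exists_sylow_central hpf₁ (by rw [h.cls_good g₁]; exact h.htn)
  obtain ⟨T₂, hT₂, -⟩ := exists_sylow_central hpf₂ (by rw [h.cls_good g₂]; exact h.htn)
  obtain ⟨g, hg⟩ := MulAction.exists_smul_eq K T₁ T₂
  have hm : g * f₁ * g⁻¹ ∈ (T₂ : Subgroup K) := by
    rw [← hg, Sylow.coe_subgroup_smul]
    exact ⟨f₁, hfT₁, rfl⟩
  have hgood : Good r (g * f₁ * g⁻¹) :=
    ⟨t, h.ht, h.htr, Prim.map h.ht (MulAut.conj g).toMonoidHom hpf₁, fun hz => hfZ₁ (by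
      have := (inferInstance : (Subgroup.center K).Normal).conj_mem _ hz g⁻¹
      simpa [mul_assoc] using this)⟩
  refine ⟨g, ?_⟩
  rw [← h.cent_eq he₂ g₂ hf₂, ← h.cent_eq g₂ hgood (hT₂ hm), cent_conj, h.cent_eq he₁ g₁ hf₁]

end Core

end Cfsg.Agent.Perm.CoprimeFour
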