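import Cfsg.Agent.Lib.Perm.CoprimeFour.Local

/-!
The contradiction: `n` is a power of `r`.
-/

set_option autoImplicit false
set_option linter.style.haveILetI false

namespace Cfsg.Agent.Perm.CoprimeFour

open Cfsg.Agent.Perm.CoprimeSizes

universe u

variable {K : Type u} [Group K] [Finite K] {r n t q : ℕ}

theorem mem_normalizer_map {C : Subgroup K} {g x : K}
    (hx : x ∈ Subgroup.normalizer (C : Set K)) :
    g * x * g⁻¹ ∈ Subgroup.normalizer ((C.map (MulAut.conj g).toMonoidHom : Subgroup K) : Set K) := by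
  refine Subgroup.mem_normalizer_iff.2 fun a => ?_
  have key : ∀ b, b ∈ C.map (MulAut.conj g).toMonoidHom ↔ g⁻¹ * b * g ∈ C := fun b =>
    ⟨fun ⟨c, hc, e⟩ => by rw [← e]; simpa [mul_assoc] using hc, fun h => ⟨_, h, by simp [mul_assoc]⟩⟩
  rw [key, key, Subgroup.mem_normalizer_iff.1 hx]
  simp [mul_assoc]

theorem card_normalizer_le {C : Subgroup K} (g : K) :
    Nat.card (Subgroup.normalizer (C : Set K)) ≤
      Nat.card (Subgroup.normalizer ((C.map (MulAut.conj g).toMonoidHom : Subgroup K) : Set K)) := by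
  have hinj : Function.Injective (MulAut.conj g).toMonoidHom := (MulAut.conj g).injective
  have hc : Nat.card ((Subgroup.normalizer (C : Set K)).map (MulAut.conj g).toMonoidHom) =
      Nat.card (Subgroup.normalizer (C : Set K)) := Subgroup.card_map_of_injective hinj
  rw [← hc]
  refine Subgroup.card_le_of_le ?_
  rintro _ ⟨x, hx, rfl⟩
  exact mem_normalizer_map hx

theorem Core.prime_eq (h : Core K r n t q) {q₂ : ℕ} (hq₂ : q₂.Prime) (hr₂ : q₂ ≠ r) (hn₂ : q₂ ∣ n) :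
    q₂ = q := by
  haveI := Fact.mk h.ht
  haveI := Fact.mk h.hq
  haveI := Fact.mk hq₂
  have h₂ : Core K r n t q₂ := { h with hq := hq₂, hqr := hr₂, hqn := hn₂ }
  obtain ⟨w, Q, T, F⟩ := exists_frame h
  obtain ⟨w₂, Q₂, T₂, F₂⟩ := exists_frame h₂
  have e1 := F.relIndex_eq h
  have e2 := F₂.relIndex_eq h₂
  have hw := F.good h
  have hw₂ : Good r w₂ := F₂.good h₂
  have hcard : ∀ v : K, Nat.card (cent v) * (cent v).relIndex (Subgroup.normalizer (cent v : Set K)) =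
      Nat.card (Subgroup.normalizer (cent v : Set K)) := fun v => by
    rw [← Subgroup.relIndex_bot_left, ← Subgroup.relIndex_bot_left]
    exact Subgroup.relIndex_mul_relIndex _ _ _ bot_le Subgroup.le_normalizer
  have h1 := hcard w
  have h2 := hcard w₂
  rw [e1] at h1
  rw [e2] at h2
  have heq : Nat.card (cent w) = Nat.card (cent w₂) :=
    card_eq_of_fac _ _ fun p _ => h.fac_good hw hw₂ p
  have hNeq : Nat.card (Subgroup.normalizer (cent w : Set K)) =
      Nat.card (Subgroup.normalizer (cent w₂ : Set K)) := by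
    obtain ⟨g, hg⟩ := h.conj hw hw₂
    obtain ⟨g', hg'⟩ := h.conj hw₂ hw
    refine le_antisymm ?_ ?_
    · rw [hg]; exact card_normalizer_le g
    · rw [hg']; exact card_normalizer_le g'
  rw [← heq, ← hNeq, ← h1] at h2
  exact Nat.eq_of_mul_eq_mul_left Nat.card_pos h2

theorem Core.false (h : Core K r n t q) : False := by
  classical
  haveI := Fact.mk h.ht
  haveI := Fact.mk h.hq
  haveI := Fact.mk h.hr
  obtain ⟨w, Q, T, F⟩ := exists_frame h
  have hw := F.good h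
  set C := cent w with hC
  set N := Subgroup.normalizer (C : Set K) with hN
  have hrel : C.relIndex N = q := F.relIndex_eq h
  set Z := Subgroup.center K with hZ
  have hpow : ∀ x ∈ N, ∀ i, x ^ r ^ i ∈ C → x ∈ C := by
    intro x hx i hxi
    haveI : (C.subgroupOf N).Normal := Subgroup.normal_in_normalizer
    have h1 := Subgroup.pow_index_mem (C.subgroupOf N) (⟨x, hx⟩ : N)
    rw [show (C.subgroupOf N).index = q from hrel, Subgroup.mem_subgroupOf, Subgroup.coe_pow] at h1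
    have hco : Int.gcd ((r ^ i : ℕ) : ℤ) (q : ℤ) = 1 := by
      rw [Int.gcd_natCast_natCast]
      exact Nat.Coprime.pow_left i ((Nat.coprime_primes h.hr h.hq).2 h.hqr.symm)
    have hb := Int.gcd_eq_gcd_ab ((r ^ i : ℕ) : ℤ) (q : ℤ)
    rw [hco] at hb
    have e : x = x ^ ((1 : ℕ) : ℤ) := by simp
    rw [e, hb, zpow_add, zpow_mul, zpow_mul, zpow_natCast, zpow_natCast]
    exact C.mul_mem (C.zpow_mem hxi _) (C.zpow_mem h1 _)
  obtain ⟨g, hgQ, hgC⟩ : ∃ g ∈ (Q : Subgroup K), g ∉ C := by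
    by_contra hno
    push Not at hno
    exact Q.not_dvd_index (h.hqn.trans ((show C.index = n from h.cls_good hw) ▸
      Subgroup.index_dvd_of_le (show (Q : Subgroup K) ≤ C from hno)))
  have hgN : g ∈ N := F.Q_le h hgQ
  -- the class of `w` modulo the centre
  set π := QuotientGroup.mk' Z with hπ
  have hπ1 : ∀ {x : K}, π x = 1 ↔ x ∈ Z := fun {x} => QuotientGroup.eq_one_iff x
  set Hw := (cent (π w)).comap π with hHw
  have hCH : C ≤ Hw := fun x hx => by
    rw [hHw, Subgroup.mem_comap, mem_cent, ← map_mul, ← map_mul, mem_cent.1 hx]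
  have hQH : (Q : Subgroup K) ≤ Hw := fun x hx => by
    rw [hHw, Subgroup.mem_comap, mem_cent, ← map_mul, ← map_mul]
    have h1 := hπ1.2 (F.comm x hx)
    rw [show x * w * x⁻¹ * w⁻¹ = x * w * (w * x)⁻¹ by group, map_mul, map_inv] at h1
    exact mul_inv_eq_one.1 h1
  obtain ⟨a, ha⟩ : ∃ a, Hw.index = r ^ a := by
    refine ⟨_, Nat.eq_prime_pow_of_unique_prime_dvd Subgroup.index_ne_zero_of_finite fun {p} hp hd => ?_⟩
    by_contra hpr
    by_cases hpq : p = q
    · subst hpq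
      exact Q.not_dvd_index (hd.trans (Subgroup.index_dvd_of_le hQH))
    · exact hpq (h.prime_eq hp hpr ((hd.trans (Subgroup.index_dvd_of_le hCH)).trans
        (dvd_of_eq (h.cls_good hw))))
  -- the `r`-core modulo the centre
  haveI := Solv.pCore_normal (G := K ⧸ Z) r
  set W := (Cfsg.pCore r (K ⧸ Z)).comap π with hW
  haveI : W.Normal := inferInstanceAs (((Cfsg.pCore r (K ⧸ Z)).comap π).Normal)
  have hWp : ∀ x ∈ W, ∃ i, x ^ r ^ i ∈ Z := by
    intro x hx
    obtain ⟨i, hi⟩ := Fusion.isPGroup_pCore r (K ⧸ Z) ⟨π x, hx⟩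
    exact ⟨i, hπ1.1 (by rw [map_pow]; exact congrArg Subtype.val hi)⟩
  have hWprim : ∀ {p : ℕ}, p.Prime → p ≠ r → ∀ {x : K}, Prim p x → x ∈ W → x ∈ Z := by
    intro p hp hpr x hx hxW
    refine hπ1.1 (eq_one_of_prim_coprime (Prim.map hp π hx) ?_)
    obtain ⟨i, hi⟩ := hWp x hxW
    have : orderOf (π x) ∣ r ^ i := orderOf_dvd_of_pow_eq_one (by rw [← map_pow]; exact hπ1.2 hi)
    exact Nat.Coprime.coprime_dvd_left this (Nat.Coprime.pow_left i ((Nat.coprime_primes h.hr hp).2 hpr.symm))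
  set π₂ := QuotientGroup.mk' W with hπ₂
  have hπ21 : ∀ {x : K}, π₂ x = 1 ↔ x ∈ W := fun {x} => QuotientGroup.eq_one_iff x
  have hrad : π₂ w ∈ Cfsg.solvableRadical (K ⧸ W) := by
    have hle : Hw ≤ (cent (π₂ w)).comap π₂ := by
      intro x hx
      rw [Subgroup.mem_comap, mem_cent, ← map_mul, ← map_mul]
      refine (QuotientGroup.eq).2 ?_
      show π ((x * w)⁻¹ * (w * x)) ∈ Cfsg.pCore r (K ⧸ Z)
      have hx' : π x * π w = π w * π x := mem_cent.1 (Subgroup.mem_comap.1 hx)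
      rw [map_mul, map_inv, map_mul, map_mul, hx', inv_mul_cancel]
      exact one_mem _
    have hd : (cent (π₂ w)).index ∣ r ^ a := by
      rw [← Subgroup.index_comap_of_surjective (cent (π₂ w)) (QuotientGroup.mk'_surjective W), ← ha]
      exact Subgroup.index_dvd_of_le hle
    obtain ⟨b, -, hb⟩ := (Nat.dvd_prime_pow h.hr).1 hd
    exact Kazarin.mem_rad hb
  have hw1 : π₂ w ≠ 1 := fun e => F.wZ (hWprim h.hq h.hqr F.wp (hπ21.1 e))
  haveI := Kazarin.rad_normal (G := K ⧸ W)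
  haveI := Kazarin.rad_solvable (G := K ⧸ W)
  obtain ⟨M, hMn, hMb, hMle, hmin⟩ := Solv.exists_minimal_normal_le (Cfsg.solvableRadical (K ⧸ W))
    (fun hb => hw1 (Subgroup.mem_bot.1 (hb ▸ hrad)))
  have hMs : Group.IsSolvable M :=
    Group.isSolvable_of_isSolvable_injective (Subgroup.inclusion_injective hMle)
  obtain ⟨hMab, p, hp, -, hMp⟩ := Solv.minimal_normal_elementaryAbelian M hMs hMb hmin
  haveI := Fact.mk hp
  set E := M.comap π₂ with hE
  haveI : E.Normal := inferInstanceAs ((M.comap π₂).Normal)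
  have hEp : ∀ x ∈ E, ∃ i, x ^ p ^ i ∈ W := by
    intro x hx
    obtain ⟨i, hi⟩ := hMp ⟨π₂ x, hx⟩
    exact ⟨i, hπ21.1 (by rw [map_pow]; exact congrArg Subtype.val hi)⟩
  have hpr : p ≠ r := by
    intro e
    subst e
    have hpg : IsPGroup p ↥(E.map π) := by
      rintro ⟨_, x, hx, rfl⟩
      obtain ⟨i, hi⟩ := hEp x hx
      obtain ⟨j, hj⟩ := hWp _ hi
      refine ⟨i + j, Subtype.ext ?_⟩
      rw [Subgroup.coe_pow, Subgroup.coe_one, ← map_pow, pow_add, pow_mul]
      exact hπ1.2 hj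
    haveI : (E.map π).Normal := Subgroup.Normal.map inferInstance π (QuotientGroup.mk'_surjective Z)
    have hle : E ≤ W := fun x hx => Fusion.le_pCore hpg (Subgroup.mem_map_of_mem π hx)
    obtain ⟨y, hy, hy1⟩ := (Subgroup.bot_or_exists_ne_one M).resolve_left hMb
    obtain ⟨x, rfl⟩ := QuotientGroup.mk'_surjective W y
    exact hy1 (hπ21.2 (hle hy))
  have hEprim : ∀ {s : ℕ}, s.Prime → s ≠ p → ∀ {x : K}, Prim s x → x ∈ E → x ∈ W := by
    intro s hs hsp x hx hxE
    refine hπ21.1 (eq_one_of_prim_coprime (Prim.map hs π₂ hx) ?_)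
    obtain ⟨i, hi⟩ := hEp x hxE
    have : orderOf (π₂ x) ∣ p ^ i := orderOf_dvd_of_pow_eq_one (by rw [← map_pow]; exact hπ21.2 hi)
    exact Nat.Coprime.coprime_dvd_left this (Nat.Coprime.pow_left i ((Nat.coprime_primes hp hs).2 hsp.symm))
  -- the `p`-parts of elements of `E`
  have hppart : ∀ x ∈ E, ∃ u ∈ E, Prim p u ∧ π₂ u = π₂ x := by
    intro x hx
    obtain ⟨u, v, hu, hv, huv, hup, hvp⟩ := Solv.exists_ppart p x
    refine ⟨u, mem_of_zpowers_mem hx hu, hup, ?_⟩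
    obtain ⟨i, hi⟩ := hEp v (mem_of_zpowers_mem hx hv)
    have hv1 : π₂ v = 1 := by
      refine orderOf_eq_one_iff.1 (Nat.eq_one_of_dvd_coprimes (hvp.pow_right i)
        (orderOf_map_dvd π₂ v) (orderOf_dvd_of_pow_eq_one ?_))
      rw [← map_pow]; exact hπ21.2 hi
    rw [← huv, map_mul, hv1, mul_one]
  obtain ⟨e₁, he₁E, he₁p, he₁Z⟩ : ∃ e ∈ E, Prim p e ∧ e ∉ Z := by
    obtain ⟨y, hy, hy1⟩ := (Subgroup.bot_or_exists_ne_one M).resolve_left hMb
    obtain ⟨x, rfl⟩ := QuotientGroup.mk'_surjective W y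
    obtain ⟨u, hu, hup, hux⟩ := hppart x hy
    refine ⟨u, hu, hup, fun hz => hy1 ?_⟩
    rw [← hux, hπ21, hW, Subgroup.mem_comap, hπ1.2 hz]
    exact one_mem _
  -- a Sylow subgroup of `E` from one of the group
  have hsyl : ∀ P : Sylow p K, ∀ x ∈ E, Prim p x → ∃ v ∈ E, v * x * v⁻¹ ∈ E ⊓ (P : Subgroup K) := by
    intro P x hx hxp
    have hDp : IsPGroup p ((E ⊓ (P : Subgroup K)).subgroupOf E) :=
      (P.isPGroup'.to_le inf_le_right).of_equiv (Subgroup.subgroupOfEquivOfLe inf_le_left).symm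
    have hDi : ¬ p ∣ ((E ⊓ (P : Subgroup K)).subgroupOf E).index := by
      intro hd
      have hc := Solv.card_sup_mul_card_inf E (P : Subgroup K)
      have h1 := congrArg (fun m => m.factorization p) hc
      simp only [Nat.factorization_mul Nat.card_pos.ne' Nat.card_pos.ne', Finsupp.add_apply] at h1
      have h5 : (Nat.card (P : Subgroup K)).factorization p = (Nat.card K).factorization p := by
        rw [P.card_eq_multiplicity, Nat.Prime.factorization_pow hp, Finsupp.single_eq_same]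
      have h2 := fac_mono (le_top : E ⊔ (P : Subgroup K) ≤ ⊤) p
      rw [Subgroup.card_top] at h2
      have h3 := card_fac ((E ⊓ (P : Subgroup K)).subgroupOf E) p
      rw [Nat.card_congr (Subgroup.subgroupOfEquivOfLe inf_le_left).toEquiv] at h3
      have h4 := hp.factorization_pos_of_dvd Subgroup.index_ne_zero_of_finite hd
      omega
    let D := hDp.toSylow hDi
    obtain ⟨P₁, hP₁⟩ := exists_sylow_of_prim (Prim.mk hx hxp)
    obtain ⟨v, hv⟩ := MulAction.exists_smul_eq E P₁ D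
    refine ⟨v, v.2, ?_⟩
    have h2 : v * ⟨x, hx⟩ * v⁻¹ ∈ ((D : Sylow p E) : Subgroup E) := by
      rw [← hv, Sylow.coe_subgroup_smul]
      exact ⟨_, hP₁, rfl⟩
    exact h2
  -- a centralizer containing a Sylow subgroup of `E`
  obtain ⟨e₀, P₀, he₀g, he₀, hD⟩ : ∃ (e₀ : K) (P₀ : Sylow p K), Good r e₀ ∧
      e₀ ∈ E ⊓ (P₀ : Subgroup K) ∧ E ⊓ (P₀ : Subgroup K) ≤ cent e₀ := by
    by_cases hpq : p = q
    · subst hpq
      have hle : E ⊓ (Q : Subgroup K) ≤ C := by
        intro d hd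
        obtain ⟨z₀, hz₀, hz₀Z⟩ := F.exZ
        have hdN : d ∈ N := F.Q_le h hd.2
        have hzC : z₀ ∈ C := F.Tle hz₀
        set c := z₀ * d * z₀⁻¹ * d⁻¹ with hc
        have hcT : c ∈ (T : Subgroup K) := by
          rw [hc, show z₀ * d * z₀⁻¹ * d⁻¹ = z₀ * (d * z₀⁻¹ * d⁻¹) by group]
          exact (T : Subgroup K).mul_mem hz₀
            ((Subgroup.mem_normalizer_iff.1 (F.le_normalizer_T h hdN) _).1 (inv_mem hz₀))
        have hcE : c ∈ E := E.mul_mem (Subgroup.Normal.conj_mem inferInstance d hd.1 z₀) (E.inv_mem hd.1)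
        have hcZ : c ∈ Z := hWprim h.ht h.htr (prim_of_mem_sylow T hcT)
          (hEprim h.ht h.htq (prim_of_mem_sylow T hcT) hcE)
        have hcd : Commute c d := ((Subgroup.mem_center_iff.1 hcZ d).symm :)
        have h1 : (c * d) ^ orderOf d = 1 := by
          rw [hc, inv_mul_cancel_right, conj_pow, pow_orderOf_eq_one, mul_one, mul_inv_cancel]
        rw [hcd.mul_pow, pow_orderOf_eq_one, mul_one] at h1
        have hc1 : c = 1 := orderOf_eq_one_iff.1 (Nat.eq_one_of_dvd_coprimes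
          ((prim_of_mem_sylow T hcT).coprime h.ht h.hq h.htq (prim_of_mem_sylow Q hd.2)) dvd_rfl
          (orderOf_dvd_of_pow_eq_one h1))
        rw [hC, ← F.T_cent h hz₀ hz₀Z, mem_cent]
        exact (mul_inv_eq_iff_eq_mul.1 (mul_inv_eq_one.1 hc1)).symm
      obtain ⟨v, hv, hvD⟩ := hsyl Q e₁ he₁E he₁p
      have hvg : Good r (v * e₁ * v⁻¹) :=
        ⟨p, hp, hpr, Prim.map hp (MulAut.conj v).toMonoidHom he₁p, fun hz => he₁Z (by
          have := (inferInstance : Z.Normal).conj_mem _ hz v⁻¹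
          simpa [mul_assoc] using this)⟩
      exact ⟨_, Q, hvg, hvD, hle.trans (h.cent_eq hw hvg (hle hvD)).ge⟩
    · have hg1 : Good r e₁ := ⟨p, hp, hpr, he₁p, he₁Z⟩
      obtain ⟨P, hP, heP⟩ := exists_sylow_central he₁p (fun hd =>
        hpq (h.prime_eq hp hpr (hd.trans (dvd_of_eq (h.cls_good hg1)))))
      exact ⟨e₁, P, hg1, ⟨he₁E, heP⟩, inf_le_right.trans hP⟩
  -- every conjugate of this centralizer comes from `W`
  set C' := cent e₀ with hC'
  have he₀p : Prim p e₀ := prim_of_mem_sylow P₀ he₀.2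
  have hcover : ∀ k : K, ∃ ω ∈ W, cent (ω * (k * e₀ * k⁻¹) * ω⁻¹) = C' := by
    intro k
    set x := k * e₀ * k⁻¹ with hx
    have hxE : x ∈ E := Subgroup.Normal.conj_mem inferInstance e₀ he₀.1 k
    have hxp : Prim p x := Prim.map hp (MulAut.conj k).toMonoidHom he₀p
    obtain ⟨v, hv, hvD⟩ := hsyl P₀ x hxE hxp
    obtain ⟨u, hu, hup, huv⟩ := hppart v hv
    obtain ⟨v', hv', huD⟩ := hsyl P₀ u hu hup
    set d := v' * u * v'⁻¹ with hd
    have hdv : π₂ d = π₂ v := by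
      have hcomm : π₂ v' * π₂ u = π₂ u * π₂ v' :=
        congrArg Subtype.val (hMab.is_comm.comm (⟨π₂ v', hv'⟩ : M) ⟨π₂ u, hu⟩)
      rw [hd, map_mul, map_mul, map_inv, hcomm, mul_inv_cancel_right, huv]
    refine ⟨d⁻¹ * v, hπ21.1 (by rw [map_mul, map_inv, hdv, inv_mul_cancel]), ?_⟩
    have hin : d⁻¹ * v * x * (d⁻¹ * v)⁻¹ ∈ E ⊓ (P₀ : Subgroup K) := by
      rw [show d⁻¹ * v * x * (d⁻¹ * v)⁻¹ = d⁻¹ * (v * x * v⁻¹) * d by group]
      exact Subgroup.mul_mem _ (Subgroup.mul_mem _ (Subgroup.inv_mem _ huD) hvD) huD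
    refine h.cent_eq he₀g ⟨p, hp, hpr, prim_of_mem_sylow P₀ hin.2, fun hz => ?_⟩ (hD hin)
    obtain ⟨p', hp', hpr', hpe', heZ'⟩ := he₀g
    have := (inferInstance : Z.Normal).conj_mem _ hz ((d⁻¹ * v) * k)⁻¹
    exact heZ' (by simpa [hx, mul_assoc] using this)
  -- a `q`-element outside, in the normalizer
  obtain ⟨g₀, hg₀⟩ := h.conj hw he₀g
  set g' := g₀ * g * g₀⁻¹ with hg'
  have hg'N : g' ∈ Subgroup.normalizer (C' : Set K) := by rw [hC', hg₀]; exact mem_normalizer_map hgN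
  have hg'C : g' ∉ C' := by
    rw [hC', hg₀]
    rintro ⟨c, hc, e⟩
    exact hgC (by rw [show g = c from ((MulAut.conj g₀).injective e).symm]; exact hc)
  have hg'g : Good r g' := ⟨q, h.hq, h.hqr,
    Prim.map h.hq (MulAut.conj g₀).toMonoidHom (prim_of_mem_sylow Q hgQ), fun hz =>
      hg'C (center_le_cent e₀ hz)⟩
  obtain ⟨k, hk⟩ := h.conj he₀g hg'g
  rw [← cent_conj] at hk
  obtain ⟨ω, hω, hωC⟩ := hcover k
  have hmem : ω * g' * ω⁻¹ ∈ C' := by
    rw [← hωC, cent_conj, ← hk]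
    exact ⟨g', self_mem_cent g', rfl⟩
  set ν := g'⁻¹ * (ω * g' * ω⁻¹) with hν
  have hνW : ν ∈ W := by
    rw [hν, show g'⁻¹ * (ω * g' * ω⁻¹) = (g'⁻¹ * ω * g') * ω⁻¹ by group]
    exact W.mul_mem (by simpa using Subgroup.Normal.conj_mem inferInstance ω hω g'⁻¹) (W.inv_mem hω)
  have hνN : ν ∈ Subgroup.normalizer (C' : Set K) :=
    Subgroup.mul_mem _ (Subgroup.inv_mem _ hg'N) (Subgroup.le_normalizer hmem)
  have hν0N : g₀⁻¹ * ν * g₀ ∈ N := by
    have h1 := mem_normalizer_map (g := g₀⁻¹) hνN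
    rw [inv_inv] at h1
    convert h1 using 3
    ext a
    rw [hC', hg₀, Subgroup.map_map]
    constructor
    · exact fun ha => ⟨a, ha, by simp [mul_assoc]⟩
    · rintro ⟨b, hb, rfl⟩; simpa [mul_assoc] using hb
  have hν0C : g₀⁻¹ * ν * g₀ ∈ C := by
    obtain ⟨i, hi⟩ := hWp _ (show g₀⁻¹ * ν * g₀ ∈ W by
      simpa using Subgroup.Normal.conj_mem inferInstance ν hνW g₀⁻¹)
    exact hpow _ hν0N i (center_le_cent w hi)
  have hνC : ν ∈ C' := by
    rw [hC', hg₀]
    exact ⟨_, hν0C, by simp [mul_assoc]⟩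
  apply hg'C
  have e : g' = (ω * g' * ω⁻¹) * ν⁻¹ := by rw [hν]; group
  rw [e]
  exact C'.mul_mem hmem (C'.inv_mem hνC)

end Cfsg.Agent.Perm.CoprimeFour
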