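import Cfsg.Agent.Lib.Perm.CoprimeFour.Core

/-!
The normalizer of one of the centralizers: it is an extension by a group of order `q`.
-/

set_option autoImplicit false
set_option linter.style.haveILetI false

namespace Cfsg.Agent.Perm.CoprimeFour

open Cfsg.Agent.Perm.CoprimeSizes

universe u

variable {K : Type u} [Group K] [Finite K] {r n t q : ℕ}

theorem cent_central_mul {c w : K} (hc : c ∈ Subgroup.center K) : cent (c * w) = cent w := by
  ext a
  have e : a * c = c * a := Subgroup.mem_center_iff.1 hc a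
  rw [mem_cent, mem_cent]
  constructor
  · intro h
    rw [← mul_assoc, e, mul_assoc, mul_assoc] at h
    exact mul_left_cancel h
  · intro h
    rw [← mul_assoc, e, mul_assoc, h, ← mul_assoc]

/-- A chosen element, a Sylow `q`-subgroup centralizing it modulo the centre and a Sylow `t`-subgroup
of its centralizer. -/
structure Frame (t q : ℕ) [Fact t.Prime] [Fact q.Prime] (w : K) (Q : Sylow q K) (T : Sylow t K) :
    Prop where
  wp : Prim q w
  wZ : w ∉ Subgroup.center K
  wpow : w ^ q ∈ Subgroup.center K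
  comm : ∀ x ∈ (Q : Subgroup K), x * w * x⁻¹ * w⁻¹ ∈ Subgroup.center K
  Tle : (T : Subgroup K) ≤ cent w
  exZ : ∃ z ∈ (T : Subgroup K), z ∉ Subgroup.center K

theorem exists_frame [Fact t.Prime] [hqf : Fact q.Prime] (h : Core K r n t q) :
    ∃ (w : K) (Q : Sylow q K) (T : Sylow t K), Frame t q w Q T := by
  classical
  obtain ⟨Q⟩ : Nonempty (Sylow q K) := inferInstance
  set π := QuotientGroup.mk' (Subgroup.center K) with hπ
  set P := (Q : Subgroup K).map π with hP
  have hPp : IsPGroup q P := Q.isPGroup'.map π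
  haveI : Nontrivial P := by
    rw [Subgroup.nontrivial_iff_ne_bot, Ne, hP, Subgroup.map_eq_bot_iff, QuotientGroup.ker_mk']
    intro hle
    obtain ⟨w, hw, hwZ⟩ := h.exQ
    obtain ⟨Q', hQ'⟩ := exists_sylow_of_prim hw
    obtain ⟨g, hg⟩ := MulAction.exists_smul_eq K Q Q'
    rw [← hg, Sylow.coe_subgroup_smul] at hQ'
    obtain ⟨a, ha, rfl⟩ := hQ'
    exact hwZ ((inferInstance : (Subgroup.center K).Normal).conj_mem a (hle ha) g)
  haveI : Nontrivial (Subgroup.center P) := hPp.center_nontrivial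
  obtain ⟨c, hc⟩ := exists_ne (1 : Subgroup.center P)
  -- an element of order `q` in the centre
  obtain ⟨k, hk⟩ := IsPGroup.iff_orderOf.1 hPp (c : P)
  have hk0 : 0 < k := by
    rcases Nat.eq_zero_or_pos k with rfl | hk0
    · exact absurd (Subtype.ext (orderOf_eq_one_iff.1 (by simpa using hk))) hc
    · exact hk0
  set d : P := (c : P) ^ (q ^ (k - 1)) with hd
  have hdc : d ∈ Subgroup.center P := Subgroup.pow_mem _ c.2 _
  have hdo : orderOf d = q := by
    rw [hd, orderOf_pow' _ (pow_ne_zero _ hqf.out.ne_zero), hk, Nat.gcd_eq_right (pow_dvd_pow q (Nat.sub_le k 1)),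
      Nat.pow_div (Nat.sub_le k 1) hqf.out.pos, Nat.sub_sub_self hk0, pow_one]
  obtain ⟨w, hwQ, hwd⟩ := Subgroup.mem_map.1 d.2
  have hwp := prim_of_mem_sylow Q hwQ
  have hwZ : w ∉ Subgroup.center K := by
    intro hz
    have : d = 1 := Subtype.ext (by rw [← hwd]; exact (QuotientGroup.eq_one_iff w).2 hz)
    rw [this, orderOf_one] at hdo
    exact hqf.out.one_lt.ne hdo
  have hwpow : w ^ q ∈ Subgroup.center K := by
    refine (QuotientGroup.eq_one_iff _).1 ?_
    show π (w ^ q) = 1
    rw [map_pow, hwd, ← Subgroup.coe_pow]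
    conv_lhs => rw [← hdo, pow_orderOf_eq_one]
    rfl
  have hcomm : ∀ x ∈ (Q : Subgroup K), x * w * x⁻¹ * w⁻¹ ∈ Subgroup.center K := by
    intro x hx
    refine (QuotientGroup.eq_one_iff _).1 ?_
    show π (x * w * x⁻¹ * w⁻¹) = 1
    have e := congrArg Subtype.val (Subgroup.mem_center_iff.1 hdc ⟨π x, Subgroup.mem_map_of_mem π hx⟩)
    simp only [Subgroup.coe_mul] at e
    rw [map_mul, map_mul, map_mul, map_inv, map_inv, hwd, e]
    group
  have hgw : Good r w := ⟨q, h.hq, h.hqr, hwp, hwZ⟩
  obtain ⟨f, hf, hfp, hfZ⟩ := h.exists_mem h.ht h.htr hgw h.exT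
  have hgf : Good r f := ⟨t, h.ht, h.htr, hfp, hfZ⟩
  obtain ⟨T, hT, hfT⟩ := exists_sylow_central hfp (by rw [h.cls_good hgf]; exact h.htn)
  exact ⟨w, Q, T, hwp, hwZ, hwpow, hcomm, h.cent_eq hgw hgf hf ▸ hT, f, hfT, hfZ⟩

namespace Frame

variable [Fact t.Prime] [Fact q.Prime] {w : K} {Q : Sylow q K} {T : Sylow t K}
  (F : Frame t q w Q T) (h : Core K r n t q)
include F h

theorem good : Good r w := ⟨q, h.hq, h.hqr, F.wp, F.wZ⟩

theorem T_central {z : K} (hz : z ∈ (T : Subgroup K)) {c : K} (hc : c ∈ cent w) : c * z = z * c :=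
  h.central_in (F.good h) h.ht h.htr (prim_of_mem_sylow T hz) (F.Tle hz) hc

theorem T_cent {z : K} (hz : z ∈ (T : Subgroup K)) (hzZ : z ∉ Subgroup.center K) : cent z = cent w :=
  h.cent_eq (F.good h) ⟨t, h.ht, h.htr, prim_of_mem_sylow T hz, hzZ⟩ (F.Tle hz)

theorem mem_T {x : K} (hx : Prim t x) (hxw : x ∈ cent w) : x ∈ (T : Subgroup K) := by
  have hn : Subgroup.zpowers x ≤ Subgroup.normalizer ((T : Subgroup K) : Set K) := fun u hu =>
    Subgroup.centralizer_le_normalizer _ (Subgroup.mem_centralizer_iff.2 fun a ha =>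
      (F.T_central h ha (mem_of_zpowers_mem hxw hu)).symm)
  have hpg := T.isPGroup'.to_sup_of_normal_left' hx.isPGroup hn
  exact (T.is_maximal' hpg le_sup_left) ▸ Subgroup.mem_sup_right (Subgroup.mem_zpowers x)

theorem Q_le : (Q : Subgroup K) ≤ Subgroup.normalizer (cent w : Set K) := by
  intro x hx
  refine Subgroup.mem_normalizer_iff.2 fun a => ?_
  have e : cent (x * w * x⁻¹) = cent w := by
    rw [show x * w * x⁻¹ = x * w * x⁻¹ * w⁻¹ * w by group, cent_central_mul (F.comm x hx)]
  calc a ∈ cent w ↔ x⁻¹ * (x * a * x⁻¹) * x ∈ cent w := by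
        rw [show x⁻¹ * (x * a * x⁻¹) * x = a by group]
    _ ↔ x * a * x⁻¹ ∈ cent w := by rw [← cent_conj_mem, e]

theorem le_normalizer_T : Subgroup.normalizer (cent w : Set K) ≤
    Subgroup.normalizer ((T : Subgroup K) : Set K) := by
  have key : ∀ x ∈ Subgroup.normalizer (cent w : Set K), ∀ z ∈ (T : Subgroup K),
      x * z * x⁻¹ ∈ (T : Subgroup K) := fun x hx z hz =>
    F.mem_T h (Prim.map h.ht (MulAut.conj x).toMonoidHom (prim_of_mem_sylow T hz))
      ((Subgroup.mem_normalizer_iff.1 hx z).1 (F.Tle hz))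
  refine fun x hx => Subgroup.mem_normalizer_iff.2 fun z => ⟨key x hx z, fun hz => ?_⟩
  have := key x⁻¹ (inv_mem hx) _ hz
  rwa [show x⁻¹ * (x * z * x⁻¹) * x⁻¹⁻¹ = z by group] at this

theorem fac_Q : (Nat.card K).factorization q ≤
    (Nat.card (Subgroup.normalizer (cent w : Set K))).factorization q := by
  have := fac_mono (F.Q_le h) q
  rwa [Q.card_eq_multiplicity, Nat.Prime.factorization_pow h.hq, Finsupp.single_eq_same] at this

theorem fac_cent (p : ℕ) :
    (Nat.card (cent w)).factorization p + n.factorization p = (Nat.card K).factorization p := by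
  have := card_fac (cent w) p
  rwa [show (cent w).index = n from h.cls_good (F.good h)] at this

theorem relIndex_eq : (cent w).relIndex (Subgroup.normalizer (cent w : Set K)) = q := by
  classical
  have hqp : q.Prime := h.hq
  set C := cent w with hC
  set N := Subgroup.normalizer (C : Set K) with hN
  have hCN : C ≤ N := Subgroup.le_normalizer
  letI : CommGroup (T : Subgroup K) :=
    { (inferInstance : Group (T : Subgroup K)) with
      mul_comm := fun a b => Subtype.ext (F.T_central h b.2 (F.Tle a.2)) }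
  let ρ : N →* MulAut (T : Subgroup K) :=
    (T : Subgroup K).normalizerMonoidHom.comp (Subgroup.inclusion (F.le_normalizer_T h))
  have hρ : ∀ (x : N) (z : (T : Subgroup K)), ((ρ x z : (T : Subgroup K)) : K) = x * z * (x : K)⁻¹ :=
    fun _ _ => rfl
  have hfixC : ∀ (x : N) (z : (T : Subgroup K)), (z : K) ∉ Subgroup.center K → ρ x z = z →
      (x : K) ∈ C := by
    intro x z hzZ e
    have e' : (x : K) * z * (x : K)⁻¹ = z := (hρ x z).symm.trans (congrArg Subtype.val e)
    rw [hC, ← F.T_cent h z.2 hzZ, mem_cent]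
    exact mul_inv_eq_iff_eq_mul.1 e'
  obtain ⟨z₀, hz₀, hz₀Z⟩ := F.exZ
  have hker : ∀ x : N, ρ x = 1 ↔ (x : K) ∈ C := by
    intro x
    refine ⟨fun e => hfixC x ⟨z₀, hz₀⟩ hz₀Z (by rw [e]; rfl), fun hx => ?_⟩
    refine MulEquiv.ext fun z => Subtype.ext ?_
    rw [hρ, F.T_central h z.2 hx, mul_inv_cancel_right]
    rfl
  set X := ρ.range with hX
  have hcard : Nat.card X = C.relIndex N := by
    rw [← Subgroup.index_ker]
    show ρ.ker.index = (C.subgroupOf N).index
    congr 1
    ext x
    rw [MonoidHom.mem_ker, hker, Subgroup.mem_subgroupOf]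
  have hcardN : Nat.card X * Nat.card C = Nat.card N := by
    rw [hcard, mul_comm, ← Subgroup.relIndex_bot_left, ← Subgroup.relIndex_bot_left]
    exact Subgroup.relIndex_mul_relIndex _ _ _ bot_le hCN
  have hfacX : ∀ p, (Nat.card X).factorization p + (Nat.card C).factorization p =
      (Nat.card N).factorization p := fun p => by
    rw [← hcardN, Nat.factorization_mul Nat.card_pos.ne' Nat.card_pos.ne', Finsupp.add_apply]
  rw [← hcard]
  set Z0 := (Subgroup.center K).subgroupOf (T : Subgroup K) with hZ0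
  have hfix : ∀ x : X, x ≠ 1 → ∀ v, X.subtype x v = v → v ∈ Z0 := by
    rintro ⟨_, x, rfl⟩ hx v hv
    by_contra hvZ
    exact hx (Subtype.ext ((hker x).2 (hfixC x v hvZ hv)))
  -- powers
  have htX : (Nat.card X).factorization t = 0 := by
    have h1 := hfacX t
    have h2 := fac_mono (le_top : N ≤ ⊤) t
    have h3 : (Nat.card C).factorization t + n.factorization t = (Nat.card K).factorization t :=
      F.fac_cent h t
    rw [Subgroup.card_top] at h2
    rw [Nat.factorization_eq_zero_of_not_dvd h.htn] at h3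
    omega
  have hnopow : ∀ k : ℕ, ¬ t ∣ k → (⟨z₀, hz₀⟩ : (T : Subgroup K)) ^ k ∈ Z0 → False := by
    intro k hk hmem
    apply hz₀Z
    obtain ⟨j, hj⟩ := prim_of_mem_sylow T hz₀
    have hco : k.Coprime (orderOf z₀) := by
      rw [hj]; exact Nat.Coprime.pow_right j (h.ht.coprime_iff_not_dvd.2 hk).symm
    obtain ⟨i, hi⟩ := exists_pow_eq_self_of_coprime hco
    rw [← hi]
    exact Subgroup.pow_mem _ (Subgroup.mem_subgroupOf.1 hmem) i
  have htq : ¬ t ∣ q := fun hd => h.htq ((Nat.prime_dvd_prime_iff_eq h.ht hqp).1 hd)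
  -- the image of `Q`
  let φ : K → K := fun x => x * w * x⁻¹ * w⁻¹
  have hφmul : ∀ a b : K, b ∈ (Q : Subgroup K) → φ (a * b) = φ a * φ b := by
    intro a b hb
    have e : a * φ b = φ b * a := Subgroup.mem_center_iff.1 (F.comm b hb) a
    show a * b * w * (a * b)⁻¹ * w⁻¹ = φ a * φ b
    calc a * b * w * (a * b)⁻¹ * w⁻¹ = (a * φ b) * w * a⁻¹ * w⁻¹ := by simp only [φ]; group
      _ = φ b * φ a := by rw [e]; simp only [φ]; group
      _ = φ a * φ b := (Subgroup.mem_center_iff.1 (F.comm b hb) _).symm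
  have hφC : ∀ x : K, φ x = 1 → x ∈ C := fun x hx => by
    have : x * w * x⁻¹ = w := mul_inv_eq_one.1 hx
    rw [hC, mem_cent]
    exact mul_inv_eq_iff_eq_mul.1 this
  set P := ((Q : Subgroup K).subgroupOf N).map ρ with hP
  have hPX : P ≤ X := Subgroup.map_le_range ρ _
  have hPexp : ∀ x ∈ P, x ^ q = 1 := by
    rintro _ ⟨x, hx, rfl⟩
    have hxQ : (x : K) ∈ (Q : Subgroup K) := hx
    rw [← map_pow, hker]
    refine hφC _ ?_
    have h1 : ∀ k : ℕ, φ ((x : K) ^ k) = φ x ^ k := by
      intro k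
      induction k with
      | zero => simp [φ]
      | succ k ih => rw [pow_succ, hφmul _ _ hxQ, ih, pow_succ]
    rw [Subgroup.coe_pow, h1]
    -- `c ^ q = 1` as `w ^ q` is central
    have hc : Commute (φ x) w := ((Subgroup.mem_center_iff.1 (F.comm x hxQ) w).symm :)
    have e : (φ x * w) ^ q = w ^ q := by
      show ((x : K) * w * (x : K)⁻¹ * w⁻¹ * w) ^ q = w ^ q
      rw [inv_mul_cancel_right, conj_pow, Subgroup.mem_center_iff.1 F.wpow (x : K), mul_inv_cancel_right]
    rw [hc.mul_pow] at e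
    exact mul_eq_right.1 e
  have hPcard : (Nat.card X).factorization q ≤ (Nat.card P).factorization q := by
    have h1 : Nat.card P * Nat.card ↥((Q : Subgroup K) ⊓ C) = Nat.card (Q : Subgroup K) := by
      set f := ρ.comp (Subgroup.inclusion (F.Q_le h)) with hf
      have h2 : f.range = P := by
        rw [hf, MonoidHom.range_comp, hP]
        congr 1
        ext x
        constructor
        · rintro ⟨y, rfl⟩; exact y.2
        · exact fun hx => ⟨⟨x, hx⟩, Subtype.ext rfl⟩
      have h3 : Nat.card f.ker = Nat.card ↥((Q : Subgroup K) ⊓ C) := by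
        refine Nat.card_congr
          ⟨fun x => ⟨x.1.1, x.1.2, (hker _).1 x.2⟩, fun x => ⟨⟨x.1, x.2.1⟩, (hker _).2 x.2.2⟩,
            fun x => rfl, fun x => rfl⟩
      rw [← h2, ← Subgroup.index_ker, ← h3, f.ker.index_mul_card]
    have h4 := fac_mono (inf_le_right : (Q : Subgroup K) ⊓ C ≤ C) q
    have h5 := hfacX q
    have h6 := fac_mono (le_top : N ≤ ⊤) q
    rw [Subgroup.card_top] at h6
    have h7 := congrArg (fun m => m.factorization q) h1
    simp only [Nat.factorization_mul Nat.card_pos.ne' Nat.card_pos.ne', Finsupp.add_apply,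
      Q.card_eq_multiplicity, Nat.Prime.factorization_pow hqp, Finsupp.single_eq_same] at h7
    omega
  have hqX : (Nat.card X).factorization q = 1 := by
    have hge : 1 ≤ (Nat.card X).factorization q := by
      have h1 := hfacX q
      have h2 := F.fac_Q h
      have h3 : (Nat.card C).factorization q + n.factorization q = (Nat.card K).factorization q :=
        F.fac_cent h q
      have h4 := hqp.factorization_pos_of_dvd (by have := h.hn; omega) h.hqn
      simp only [← hN, ← hC] at h2
      omega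
    by_contra hne
    have hdvd : q ^ 2 ∣ Nat.card P :=
      (pow_dvd_pow q (show 2 ≤ (Nat.card P).factorization q by omega)).trans (Nat.ordProj_dvd _ _)
    obtain ⟨P2, hP2⟩ := Sylow.exists_subgroup_card_pow_prime q hdvd
    haveI := Fintype.ofFinite P2
    let ι : P2 →* MulAut (T : Subgroup K) := P.subtype.comp P2.subtype
    refine hnopow q htq (elementary_pow_mem ι Z0 (fun x hx v hv => ?_) hqp hP2 (fun x => ?_) _)
    · refine hfix ⟨ι x, hPX (x : P).2⟩ (fun e => hx ?_) v hv
      exact Subtype.ext (Subtype.ext (congrArg Subtype.val e :))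
    · exact Subtype.ext (Subtype.ext (hPexp _ (x : P).2))
  obtain ⟨g, hg⟩ : ∃ g : X, orderOf g = q :=
    exists_prime_orderOf_dvd_card' q (Nat.dvd_of_factorization_pos (by omega))
  -- conjugate into the image of `Q`
  obtain ⟨gx, hgxQ, hgo⟩ : ∃ x : N, (x : K) ∈ (Q : Subgroup K) ∧ orderOf (ρ x) = q := by
    obtain ⟨⟨_, x, hx, rfl⟩, ho⟩ := exists_prime_orderOf_dvd_card' (G := P) q
      (Nat.dvd_of_factorization_pos (by omega))
    exact ⟨x, hx, (Subgroup.orderOf_mk _ _).symm.trans ho⟩
  set g₁ : X := ⟨ρ gx, gx, rfl⟩ with hg₁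
  have hg₁o : orderOf g₁ = q := (Subgroup.orderOf_mk _ _).trans hgo
  have hgC : (gx : K) ∉ C := fun hm => by
    rw [(hker gx).2 hm, orderOf_one] at hgo
    exact hqp.one_lt.ne hgo
  -- only `q`-elements centralize it
  have hcen : ∀ (x : X) (ℓ : ℕ), ℓ.Prime → orderOf x = ℓ → Commute x g₁ → ℓ = q := by
    rintro ⟨_, x, rfl⟩ ℓ hℓ ho hxg
    by_contra hne
    have hxg' : ρ (gx * x) = ρ (x * gx) := by
      rw [map_mul, map_mul]; exact congrArg Subtype.val hxg.eq.symm
    set a : N := (x * gx)⁻¹ * (gx * x) with ha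
    have haC : (a : K) ∈ C := (hker a).1 (by rw [ha, map_mul, map_inv, hxg', inv_mul_cancel])
    set w' := (x : K) * w * (x : K)⁻¹ with hw'
    have hw'C : w' ∈ C := (Subgroup.mem_normalizer_iff.1 x.2 w).1 (self_mem_cent w)
    have hw'p : Prim q w' := Prim.map hqp (MulAut.conj (x : K)).toMonoidHom F.wp
    set c := φ (gx : K) with hc
    have hcZ : c ∈ Subgroup.center K := F.comm _ hgxQ
    have e1 : (gx : K) * w' * (gx : K)⁻¹ = c * w' := by
      have e2 : (gx : K) * x = x * gx * (a : K) := by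
        rw [ha]; simp only [Subgroup.coe_mul, Subgroup.coe_inv]; group
      calc (gx : K) * w' * (gx : K)⁻¹ = ((gx : K) * x) * w * ((gx : K) * x)⁻¹ := by rw [hw']; group
        _ = (x * gx : K) * ((a : K) * w) * (a : K)⁻¹ * ((x : K) * gx)⁻¹ := by rw [e2]; group
        _ = (x * gx : K) * (w * (a : K)) * (a : K)⁻¹ * ((x : K) * gx)⁻¹ := by
            rw [show (a : K) * w = w * (a : K) from mem_cent.1 haC]
        _ = (x : K) * (c * w) * (x : K)⁻¹ := by rw [hc]; simp only [φ]; group
        _ = c * w' := by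
            rw [← mul_assoc, Subgroup.mem_center_iff.1 hcZ (x : K), hw']; group
    set d := w' * w⁻¹ with hd
    have hdfix : (gx : K) * d * (gx : K)⁻¹ = d := by
      have e3 : (gx : K) * w⁻¹ * (gx : K)⁻¹ = (c * w)⁻¹ := by rw [hc]; simp only [φ]; group
      calc (gx : K) * d * (gx : K)⁻¹
          = ((gx : K) * w' * (gx : K)⁻¹) * ((gx : K) * w⁻¹ * (gx : K)⁻¹) := by rw [hd]; group
        _ = c * (w' * w⁻¹) * c⁻¹ := by rw [e1, e3]; group
        _ = d := by
            rw [← hd, ← Subgroup.mem_center_iff.1 hcZ d, mul_inv_cancel_right]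
    have hdC : d ∈ C := C.mul_mem hw'C (C.inv_mem (self_mem_cent w))
    have hdp : Prim q d := by
      obtain ⟨i, hi⟩ := hw'p
      obtain ⟨j, hj⟩ := F.wp
      have hcm : Commute w' w⁻¹ := (show Commute w' w from mem_cent.1 hw'C).inv_right
      obtain ⟨k, -, hk⟩ := (Nat.dvd_prime_pow hqp).1
        ((hcm.orderOf_mul_dvd_lcm).trans (by
          rw [orderOf_inv, hi, hj]
          exact Nat.lcm_dvd (pow_dvd_pow q (le_max_left i j)) (pow_dvd_pow q (le_max_right i j))))
      exact ⟨k, hk⟩
    have hdZ : d ∈ Subgroup.center K := by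
      by_contra hdZ
      apply hgC
      rw [hC, ← h.cent_eq (F.good h) ⟨q, hqp, h.hqr, hdp, hdZ⟩ hdC, mem_cent]
      exact mul_inv_eq_iff_eq_mul.1 hdfix
    -- hence `x` fixes `w`
    have hxw : ∀ k : ℕ, (x : K) ^ k * w * ((x : K) ^ k)⁻¹ = d ^ k * w := by
      intro k
      induction k with
      | zero => simp
      | succ k ih =>
        calc (x : K) ^ (k + 1) * w * ((x : K) ^ (k + 1))⁻¹
            = (x : K) * ((x : K) ^ k * w * ((x : K) ^ k)⁻¹) * (x : K)⁻¹ := by rw [pow_succ']; group
          _ = ((x : K) * d ^ k) * w * (x : K)⁻¹ := by rw [ih]; group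
          _ = d ^ k * w' := by
              rw [Subgroup.mem_center_iff.1 (Subgroup.pow_mem _ hdZ k) (x : K), hw']; group
          _ = d ^ (k + 1) * w := by rw [pow_succ, hd]; group
    have hxC : ((x : K)) ^ ℓ ∈ C := by
      have e4 : ρ (x ^ ℓ) = 1 := by
        rw [map_pow]
        have := pow_orderOf_eq_one (⟨ρ x, x, rfl⟩ : X)
        rw [ho] at this
        exact congrArg Subtype.val this
      simpa using (hker _).1 e4
    have hdl : d ^ ℓ = 1 := by
      have e5 := hxw ℓ
      rw [mem_cent.1 hxC, mul_inv_cancel_right] at e5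
      exact mul_eq_right.1 e5.symm
    have hd1 : d = 1 := orderOf_eq_one_iff.1 (Nat.eq_one_of_dvd_coprimes
      (hdp.coprime_prime hqp hℓ fun e => hne e.symm) dvd_rfl (orderOf_dvd_of_pow_eq_one hdl))
    have hxC1 : (x : K) ∈ C := by
      rw [hC, mem_cent]
      exact mul_inv_eq_iff_eq_mul.1 (mul_inv_eq_one.1 hd1)
    rw [show (⟨ρ x, x, rfl⟩ : X) = 1 from Subtype.ext ((hker x).2 hxC1), orderOf_one] at ho
    exact hℓ.one_lt.ne ho
  haveI := Fintype.ofFinite X
  haveI := Fact.mk hqp
  set M0 := Subgroup.zpowers g₁ with hM0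
  have hM0c : Nat.card M0 = q := by rw [hM0, Nat.card_zpowers, hg₁o]
  have hcentM : Subgroup.centralizer ({g₁} : Set X) = M0 := by
    set D := Subgroup.centralizer ({g₁} : Set X)
    refine (eq_of_le_of_fac (Subgroup.zpowers_le.2 (self_mem_cent g₁)) fun p hp => ?_).symm
    by_cases hd : p ∣ Nat.card D
    · haveI := Fact.mk hp
      obtain ⟨y, hy⟩ := exists_prime_orderOf_dvd_card' (G := D) p hd
      obtain rfl : p = q := hcen (y : X) p hp (by rw [Subgroup.orderOf_coe]; exact hy) (mem_cent.1 y.2)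
      have := fac_mono (le_top : D ≤ ⊤) p
      rw [Subgroup.card_top, hqX] at this
      rw [hM0c, hp.factorization_self]
      exact this
    · rw [Nat.factorization_eq_zero_of_not_dvd hd]; exact Nat.zero_le _
  have hcyc : ∀ u ∈ M0, u ≠ 1 → Subgroup.zpowers u = M0 := by
    intro u hu hu1
    refine Subgroup.eq_of_le_of_card_ge (Subgroup.zpowers_le.2 hu) ?_
    rw [hM0c, Nat.card_zpowers]
    have hd : orderOf u ∣ q := hM0c ▸ by
      rw [← Subgroup.orderOf_mk _ hu]; exact orderOf_dvd_natCard _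
    rcases (Nat.dvd_prime hqp).1 hd with h1 | h1
    · exact absurd (orderOf_eq_one_iff.1 h1) hu1
    · exact h1.ge
  have hnorm : Subgroup.normalizer (M0 : Set X) = M0 := by
    refine (eq_of_le_of_fac Subgroup.le_normalizer fun p hp => ?_).symm
    by_cases hd : p ∣ Nat.card ↥(Subgroup.normalizer (M0 : Set X))
    · haveI := Fact.mk hp
      obtain ⟨y, hy⟩ := exists_prime_orderOf_dvd_card' (G := Subgroup.normalizer (M0 : Set X)) p hd
      by_cases hpq : p = q
      · subst hpq
        have := fac_mono (le_top : Subgroup.normalizer (M0 : Set X) ≤ ⊤) p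
        rw [Subgroup.card_top, hqX] at this
        rw [hM0c, hp.factorization_self]
        exact this
      · exfalso
        set Y := M0 ⊔ Subgroup.zpowers (y : X) with hY
        have hYN : Y ≤ Subgroup.normalizer (M0 : Set X) :=
          sup_le Subgroup.le_normalizer (Subgroup.zpowers_le.2 y.2)
        haveI : (M0.subgroupOf Y).Normal := Subgroup.normal_subgroupOf_iff_le_normalizer le_sup_left |>.2 hYN
        haveI := Fintype.ofFinite Y
        let g₂ : Y := ⟨(y : X), Subgroup.mem_sup_right (Subgroup.mem_zpowers _)⟩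
        refine hnopow q htq ?_
        have hc2 : Nat.card (M0.subgroupOf Y) = q := by
          rw [Nat.card_congr (Subgroup.subgroupOfEquivOfLe le_sup_left).toEquiv, hM0c]
        rw [← hc2]
        refine frobenius_pow_mem (X.subtype.comp Y.subtype) Z0
          (fun x hx v hv => hfix (x : X) (fun e => hx (Subtype.ext e)) v hv) (M0.subgroupOf Y) ?_ g₂ hp
          ((Subgroup.orderOf_mk _ _).trans ((Subgroup.orderOf_coe y).trans hy)) ?_ ?_ _
        · intro hb
          rw [hb, Subgroup.card_bot] at hc2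
          exact hqp.one_lt.ne hc2
        · refine Subgroup.map_injective Y.subtype_injective ?_
          rw [Subgroup.map_sup, Subgroup.map_subgroupOf_eq_of_le le_sup_left, MonoidHom.map_zpowers,
            ← MonoidHom.range_eq_map, Subgroup.range_subtype]
          rfl
        · intro m hm hmy
          by_contra hm1
          have hm1' : (m : X) ≠ 1 := fun e => hm1 (Subtype.ext e)
          obtain ⟨i, hi⟩ := Subgroup.mem_zpowers_iff.1
            ((hcyc _ (Subgroup.mem_subgroupOf.1 hm) hm1').symm ▸ Subgroup.mem_zpowers g₁ :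
              g₁ ∈ Subgroup.zpowers (m : X))
          have hcm : Commute (y : X) g₁ := by
            rw [← hi]
            exact (show Commute (m : X) (y : X) from congrArg Subtype.val hmy).symm.zpow_right i
          exact hpq (hcen (y : X) p hp (by rw [Subgroup.orderOf_coe]; exact hy) hcm)
    · rw [Nat.factorization_eq_zero_of_not_dvd hd]; exact Nat.zero_le _
  -- a normal complement
  let S : Sylow q X := Sylow.ofCard M0 (by rw [hM0c, hqX, pow_one])
  have hS : (S : Subgroup X) = M0 := rfl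
  have hle : Subgroup.normalizer ((S : Subgroup X) : Set X) ≤
      Subgroup.centralizer ((S : Subgroup X) : Set X) := by
    rw [hS, hnorm]
    exact fun a ha => Subgroup.mem_centralizer_iff.2 fun b hb =>
      comm_of_mem_zpowers hb ha
  have hcompl := MonoidHom.ker_transferSylow_isComplement' S hle
  set M := (MonoidHom.transferSylow S hle).ker with hM
  have hMc : Nat.card M * q = Nat.card X := by
    rw [← hM0c, ← hS]; exact hcompl.card_mul
  by_contra hXq
  have hMne : M ≠ ⊥ := fun hb => hXq (by rw [← hMc, hb, Subgroup.card_bot, one_mul])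
  refine hnopow (Nat.card M) (fun hd => ?_) (frobenius_pow_mem X.subtype Z0 hfix M hMne g₁ hqp hg₁o ?_ ?_ _)
  · have := h.ht.factorization_pos_of_dvd Nat.card_pos.ne' (hd.trans ⟨q, hMc.symm⟩ : t ∣ Nat.card X)
    omega
  · rw [← hM0, ← hS]; exact hcompl.sup_eq_top
  · intro m hm hmg
    have h1 : m ∈ M0 := hcentM ▸ mem_cent.2 hmg
    exact Subgroup.mem_bot.1 (hcompl.disjoint.eq_bot ▸ Subgroup.mem_inf.2 ⟨hm, h1⟩)

end Frame

end Cfsg.Agent.Perm.CoprimeFour
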