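import Cfsg.Agent.Lib.Perm.CoprimeFour.CoreMain
import Cfsg.Agent.Lib.Solv.ThreeSolv
import Cfsg.Agent.S4134

/-!
Class sizes `1, n, m, n m` with `n, m` coprime: both `n` and `m` are prime powers.
-/

set_option autoImplicit false
set_option linter.style.haveILetI false

namespace Cfsg.Agent.Perm.CoprimeFour

open Cfsg.Agent.Perm.CoprimeSizes

universe u

variable {G : Type u} [Group G]

/-- The class sizes are `1, n, m, n m`. -/
structure Sizes (G : Type u) [Group G] (n m : ℕ) : Prop where
  hn : 1 < n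
  hm : 1 < m
  cop : n.Coprime m
  cases : ∀ g : G, cls g = 1 ∨ cls g = n ∨ cls g = m ∨ cls g = n * m
  exN : ∃ g : G, cls g = n
  exM : ∃ g : G, cls g = m
  exNM : ∃ g : G, cls g = n * m

/-- No element of prime-power order has class size `n` divisible by its prime. -/
def NoOwn (G : Type u) [Group G] (n : ℕ) : Prop :=
  ∀ (q : ℕ) (x : G), q.Prime → Prim q x → cls x = n → ¬ q ∣ n

namespace Sizes

variable {n m : ℕ} (h : Sizes G n m)
include h

theorem symm : Sizes G m n where
  hn := h.hm
  hm := h.hn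
  cop := h.cop.symm
  cases := fun g => by rcases h.cases g with e | e | e | e <;> simp [e, mul_comm]
  exN := h.exM
  exM := h.exN
  exNM := by obtain ⟨g, hg⟩ := h.exNM; exact ⟨g, by rw [hg, mul_comm]⟩

theorem not_dvd_of_dvd {t : ℕ} (ht : t.Prime) (htn : t ∣ n) : ¬ t ∣ m := fun htm =>
  ht.not_dvd_one (h.cop.gcd_eq_one ▸ Nat.dvd_gcd htn htm)

theorem of_dvd_n {g : G} (hg : cls g ∣ n) : cls g = 1 ∨ cls g = n := by
  rcases h.cases g with e | e | e | e
  · exact Or.inl e
  · exact Or.inr e
  · have := Nat.eq_one_of_dvd_coprimes h.cop (e ▸ hg) dvd_rfl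
    have := h.hm; omega
  · have := Nat.eq_one_of_dvd_coprimes h.cop ((dvd_mul_left m n).trans (e ▸ hg)) dvd_rfl
    have := h.hm; omega

theorem of_n_dvd {g : G} (hg : n ∣ cls g) : cls g = n ∨ cls g = n * m := by
  rcases h.cases g with e | e | e | e
  · rw [e] at hg; have := Nat.dvd_one.1 hg; have := h.hn; omega
  · exact Or.inl e
  · have := Nat.eq_one_of_dvd_coprimes h.cop dvd_rfl (e ▸ hg)
    have := h.hn; omega
  · exact Or.inr e

variable [Finite G]

theorem notZ_of_cls {g : G} (hg : cls g ≠ 1) : g ∉ Subgroup.center G := fun hz =>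
  hg (cls_eq_one_iff.2 hz)

theorem exists_primary_n : ∃ q : ℕ, q.Prime ∧ ∃ x : G, Prim q x ∧ cls x = n := by
  obtain ⟨g, hg⟩ := h.exN
  have hgZ : g ∉ Subgroup.center G := h.notZ_of_cls (by rw [hg]; exact (Nat.ne_of_gt h.hn))
  obtain ⟨q, hq, u, hu, hk, huZ⟩ := exists_noncentral_part hgZ
  refine ⟨q, hq, u, hk, (h.of_dvd_n ?_).resolve_left fun e => huZ (cls_eq_one_iff.1 e)⟩
  rw [← hg]
  exact cls_dvd (cent_le_of_mem_zpowers hu)

theorem prime_dvd {q : ℕ} (hq : q.Prime) {x : G} (hx : Prim q x) (hxZ : x ∉ Subgroup.center G) :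
    q ∣ n ∨ q ∣ m := by
  haveI := Fact.mk hq
  by_contra hno
  push Not at hno
  refine hxZ (central_of_not_dvd (fun g hd => ?_) hx)
  rcases h.cases g with e | e | e | e <;> rw [e] at hd
  · exact hq.not_dvd_one hd
  · exact hno.1 hd
  · exact hno.2 hd
  · exact (hq.dvd_mul.1 hd).elim hno.1 hno.2

theorem cls_mul {x k : G} (hk : k ∈ cent x) (hco : (orderOf x).Coprime (orderOf k)) :
    cls (x * k) = cls x * (cent k).relIndex (cent x) := by
  have hc := cent_mul_of_coprime (mem_cent.1 hk).symm hco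
  show (cent (x * k)).index = _
  rw [hc, ← Subgroup.relIndex_mul_index (inf_le_left : cent x ⊓ cent k ≤ cent x),
    Subgroup.inf_relIndex_left, mul_comm]

theorem rel_cases {x k : G} (hx : cls x = n) (hk : k ∈ cent x)
    (hco : (orderOf x).Coprime (orderOf k)) :
    (cent k).relIndex (cent x) = 1 ∨ (cent k).relIndex (cent x) = m := by
  have e := h.cls_mul hk hco
  rw [hx] at e
  rcases h.of_n_dvd (Dvd.intro _ e.symm) with e' | e' <;> rw [e'] at e
  · left
    exact (Nat.mul_eq_left (Nat.ne_zero_of_lt h.hn)).1 e.symm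
  · right
    exact (Nat.eq_of_mul_eq_mul_left (Nat.zero_lt_of_lt h.hn) e).symm

/-- The analysis of an `r`-element of class size `n` with `r ∣ n`. -/
theorem caseA {r : ℕ} (hr : r.Prime) {x : G} (hx : Prim r x) (hxn : cls x = n) (hrn : r ∣ n) :
    (∀ a ∈ cent x, (orderOf a).Coprime r → ∀ b ∈ cent x, Prim r b → Commute a b) ∧
      ∃ s a : ℕ, s.Prime ∧ s ∣ m ∧ m = s ^ a ∧ ∃ z : G, Prim s z ∧ cls z = m := by
  classical
  haveI := Fact.mk hr
  set K := cent x with hK
  have hrm : ¬ r ∣ m := h.not_dvd_of_dvd hr hrn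
  have hclsK : ∀ k : K, (orderOf k).Coprime r → cls k = 1 ∨ cls k = m := by
    intro k hk
    rw [cls_subgroup]
    refine h.rel_cases hxn k.2 ((coprime_prim ?_ hx).symm)
    rwa [Subgroup.orderOf_coe]
  have hnd : ∀ k : K, (orderOf k).Coprime r → ¬ r ∣ cls k := by
    intro k hk
    rcases hclsK k hk with e | e <;> rw [e]
    · exact hr.not_dvd_one
    · exact hrm
  obtain ⟨R⟩ : Nonempty (Sylow r K) := inferInstance
  set M := (R : Subgroup K) ⊔ Subgroup.centralizer ((R : Subgroup K) : Set K) with hM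
  have hMtop : M = ⊤ := by
    refine Solv.eq_top_of_forall_conj_mem _ fun g => ?_
    obtain ⟨u, v, hu, hv, huv, hup, hvp⟩ := Solv.exists_ppart r g
    -- a Sylow subgroup of the centralizer of `v` through `u`
    have huv' : u ∈ cent v := mem_cent.2 (comm_of_mem_zpowers hu hv)
    obtain ⟨P0, hP0⟩ := exists_sylow_of_prim (Prim.mk huv' hup)
    obtain ⟨P, hP⟩ := (P0.2.map (cent v).subtype).exists_le_sylow
    have hPv : (P : Subgroup K) ≤ cent v := by
      refine le_of_eq_of_le (Subgroup.eq_of_le_of_card_ge hP ?_).symm (Subgroup.map_subtype_le _)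
      rw [Subgroup.card_map_of_injective (cent v).subtype_injective, P.card_eq_multiplicity,
        P0.card_eq_multiplicity, ← (cent v).index_mul_card, Nat.factorization_mul
        Subgroup.index_ne_zero_of_finite Nat.card_pos.ne', Finsupp.add_apply,
        Nat.factorization_eq_zero_of_not_dvd (hnd v hvp), zero_add]
    obtain ⟨k, hk⟩ := MulAction.exists_smul_eq K P R
    refine ⟨k, ?_⟩
    rw [← huv, show k * (u * v) * k⁻¹ = (k * u * k⁻¹) * (k * v * k⁻¹) by group]
    refine M.mul_mem (Subgroup.mem_sup_left ?_) (Subgroup.mem_sup_right ?_)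
    · rw [← hk, Sylow.coe_subgroup_smul]
      exact ⟨u, hP (Subgroup.mem_map_of_mem _ hP0), rfl⟩
    · refine Subgroup.mem_centralizer_iff.2 fun a ha => ?_
      rw [← hk, Sylow.coe_subgroup_smul] at ha
      obtain ⟨b, hb, rfl⟩ := ha
      have e := mem_cent.1 (hPv hb)
      simp only [MulDistribMulAction.toMonoidEnd_apply, MulDistribMulAction.toMonoidHom_apply,
        MulAut.smul_def, MulAut.conj_apply]
      calc k * b * k⁻¹ * (k * v * k⁻¹) = k * (b * v) * k⁻¹ := by group
        _ = k * (v * b) * k⁻¹ := by rw [e]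
        _ = k * v * k⁻¹ * (k * b * k⁻¹) := by group
  haveI hRn : (R : Subgroup K).Normal := by
    rw [← Subgroup.normalizer_eq_top_iff, eq_top_iff, ← hMtop]
    exact sup_le Subgroup.le_normalizer (Subgroup.centralizer_le_normalizer _)
  have hRuniq : ∀ P : Sylow r K, P = R := fun P => by
    obtain ⟨k, hk⟩ := MulAction.exists_smul_eq K R P
    rw [← hk, Sylow.smul_eq_iff_mem_normalizer]
    show k ∈ Subgroup.normalizer ((R : Subgroup K) : Set K)
    rw [Subgroup.normalizer_eq_top_iff.2 hRn]
    exact Subgroup.mem_top k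
  have hRmem : ∀ b : K, Prim r b → b ∈ (R : Subgroup K) := fun b hb => by
    obtain ⟨P, hP⟩ := exists_sylow_of_prim hb
    rwa [hRuniq P] at hP
  have hA2 : ∀ a : K, (orderOf a).Coprime r → ∀ b ∈ (R : Subgroup K), Commute a b := by
    intro a ha b hb
    obtain ⟨P, hP⟩ := NilpotentHall.exists_sylow_le (hnd a ha)
    rw [hRuniq P] at hP
    exact (mem_cent.1 (hP hb)).symm
  refine ⟨fun a ha hao b hb hbp => congrArg Subtype.val
    (hA2 ⟨a, ha⟩ (by rwa [Subgroup.orderOf_mk]) ⟨b, hb⟩ (hRmem _ (Prim.mk hb hbp))).eq, ?_⟩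
  -- a complement
  obtain ⟨H, hH⟩ := Subgroup.exists_right_complement'_of_coprime R.card_coprime_index
  have hHcard : Nat.card H = (R : Subgroup K).index := hH.symm.index_eq_card.symm
  have hHo : ∀ k ∈ H, (orderOf k).Coprime r := by
    intro k hk
    refine Nat.Coprime.coprime_dvd_left ?_ ((hr.coprime_iff_not_dvd.2 R.not_dvd_index).symm)
    rw [← hHcard, ← Subgroup.orderOf_mk k hk]
    exact orderOf_dvd_natCard _
  have hsup : (R : Subgroup K) ⊔ H = ⊤ := hH.sup_eq_top
  haveI hHn : H.Normal := ⟨fun a ha g => by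
    obtain ⟨b, hb, c, hc, rfl⟩ := Subgroup.mem_sup_of_normal_left.1 (hsup.symm ▸ Subgroup.mem_top g)
    have hca : c * a * c⁻¹ ∈ H := H.mul_mem (H.mul_mem hc ha) (H.inv_mem hc)
    have e := (hA2 _ (hHo _ hca) b hb).eq
    rw [show b * c * a * (b * c)⁻¹ = b * (c * a * c⁻¹) * b⁻¹ by group, ← e, mul_inv_cancel_right]
    exact hca⟩
  have hmemH : ∀ a : K, (orderOf a).Coprime r → a ∈ H := by
    intro a ha
    refine (QuotientGroup.eq_one_iff a).1 (orderOf_eq_one_iff.1 (Nat.eq_one_of_dvd_coprimes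
      (ha.pow_right ((Nat.card (R : Subgroup K)).factorization r))
      (orderOf_map_dvd (QuotientGroup.mk' H) a) ?_))
    have e : H.index = r ^ (Nat.card (R : Subgroup K)).factorization r := by
      rw [show H.index = Nat.card (R : Subgroup K) from hH.index_eq_card, R.card_eq_multiplicity,
        Nat.Prime.factorization_pow hr, Finsupp.single_eq_same]
    rw [← e]
    exact orderOf_dvd_natCard (G := K ⧸ H) _
  have hclsH : ∀ k : H, cls k = cls (k : K) := by
    intro k
    rw [cls_subgroup]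
    show (cent (k : K)).relIndex H = (cent (k : K)).index
    set D := cent (k : K) with hD
    have hRD : (R : Subgroup K) ≤ D := fun b hb => mem_cent.2 (hA2 _ (hHo _ k.2) b hb).eq.symm
    have htop : H ⊔ D = ⊤ := top_le_iff.1 (hsup ▸ sup_le (hRD.trans le_sup_right) le_sup_left)
    have h1 := Solv.card_sup_mul_card_inf H D
    rw [htop, Subgroup.card_top, inf_comm] at h1
    have h2 : Nat.card ↥(D ⊓ H) * D.relIndex H = Nat.card H := by
      rw [← Subgroup.relIndex_bot_left, ← Subgroup.relIndex_bot_left, ← Subgroup.inf_relIndex_right D H]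
      exact Subgroup.relIndex_mul_relIndex _ _ _ bot_le inf_le_right
    have h3 := D.card_mul_index
    refine Nat.eq_of_mul_eq_mul_left (Nat.mul_pos (Nat.card_pos (α := ↥(D ⊓ H))) (Nat.card_pos (α := D))) ?_
    calc Nat.card ↥(D ⊓ H) * Nat.card D * D.relIndex H
        = (Nat.card ↥(D ⊓ H) * D.relIndex H) * Nat.card D := by ring
      _ = Nat.card K * Nat.card ↥(D ⊓ H) := by rw [h2, ← h1]
      _ = Nat.card ↥(D ⊓ H) * Nat.card D * D.index := by rw [← h3]; ring
  have hsizes : ∀ k : H, cls k = 1 ∨ cls k = m := fun k => by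
    rw [hclsH]; exact hclsK _ (hHo _ k.2)
  -- an element of class size `m` commuting with `x`
  obtain ⟨y₀, hy₀⟩ := h.exM
  obtain ⟨g, hg⟩ := exists_conj_comm hx (y := y₀) (by rw [hy₀]; exact hrm)
  set y := g * y₀ * g⁻¹ with hy
  have hym : cls y = m := by rw [hy, cls_conj, hy₀]
  have hyK : y ∈ K := mem_cent_comm.1 hg
  have hyrel : cls (⟨y, hyK⟩ : K) = m := by
    rw [cls_subgroup]
    have e := Solv.inf_index_of_coprime (H := K) (K := cent y) (by
      show (cls x).Coprime (cls y)
      rw [hxn, hym]; exact h.cop)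
    rw [← Subgroup.relIndex_mul_index (inf_le_left : K ⊓ cent y ≤ K), Subgroup.inf_relIndex_left,
      show K.index = n from hxn, show (cent y).index = m from hym, mul_comm] at e
    exact Nat.eq_of_mul_eq_mul_left (Nat.zero_lt_of_lt h.hn) e
  obtain ⟨u, v, hu, hv, huv, hup, hvp⟩ := Solv.exists_ppart r (⟨y, hyK⟩ : K)
  have hvm : cls v = m := by
    refine (hclsK v hvp).resolve_left fun e1 => ?_
    have hvZ := cls_eq_one_iff.1 e1
    have hcu : cls u = m := by
      rw [← hyrel, ← huv]
      show (cent u).index = (cent (u * v)).index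
      congr 1
      ext a
      have e : a * v = v * a := Subgroup.mem_center_iff.1 hvZ a
      rw [mem_cent, mem_cent]
      constructor
      · intro h'
        rw [← mul_assoc, h', mul_assoc, e, mul_assoc]
      · intro h'
        rw [← mul_assoc, mul_assoc u v a, ← e, ← mul_assoc] at h'
        exact mul_right_cancel h'
    have hHu : H ≤ cent u := fun c hc => mem_cent.2 (hA2 c (hHo c hc) u (hRmem u hup)).eq
    have hd : m ∣ Nat.card (R : Subgroup K) := by
      rw [← show H.index = Nat.card (R : Subgroup K) from hH.index_eq_card, ← hcu]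
      exact Subgroup.index_dvd_of_le hHu
    rw [R.card_eq_multiplicity] at hd
    obtain ⟨j, -, hj⟩ := (Nat.dvd_prime_pow hr).1 hd
    rcases Nat.eq_zero_or_pos j with rfl | hj0
    · have := h.hm; simp at hj; omega
    · exact hrm (hj ▸ dvd_pow_self r hj0.ne')
  set v' : H := ⟨v, hmemH v hvp⟩ with hv'
  have hv'm : cls v' = m := by rw [hclsH]; exact hvm
  obtain ⟨s, hsf, a, hma, hP⟩ := Cfsg.Agent.S4134.result m h.hm hsizes ⟨v', hv'm⟩
  have hs : s.Prime := hsf.out
  have hsm : s ∣ m := by
    rcases Nat.eq_zero_or_pos a with rfl | ha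
    · have := h.hm; simp at hma; omega
    · exact hma ▸ dvd_pow_self s ha.ne'
  obtain ⟨P⟩ : Nonempty (Sylow s H) := inferInstance
  obtain ⟨hPn, ⟨N, hNn, hNP, hNcomm, hcomm⟩, -⟩ := hP P
  refine ⟨s, a, hs, hsm, hma, ?_⟩
  obtain ⟨b, hb, c, hc, hbc⟩ := Subgroup.mem_sup_of_normal_left.1
    (hNP.sup_eq_top.symm ▸ Subgroup.mem_top v' : v' ∈ N ⊔ (P : Subgroup H))
  have hbZ : b ∈ Subgroup.center H := by
    refine Subgroup.mem_center_iff.2 fun g => ?_
    obtain ⟨b', hb', c', hc', rfl⟩ := Subgroup.mem_sup_of_normal_left.1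
      (hNP.sup_eq_top.symm ▸ Subgroup.mem_top g : g ∈ N ⊔ (P : Subgroup H))
    calc b' * c' * b = b' * (c' * b) := mul_assoc _ _ _
      _ = b' * (b * c') := by rw [hcomm b hb c' hc']
      _ = (b' * b) * c' := (mul_assoc _ _ _).symm
      _ = (b * b') * c' := by rw [show b' * b = b * b' from
          congrArg Subtype.val (hNcomm.is_comm.comm (⟨b', hb'⟩ : N) ⟨b, hb⟩)]
      _ = b * (b' * c') := mul_assoc _ _ _
  have hcz : c ∈ Subgroup.zpowers v' := by
    have hco : (orderOf b).Coprime (orderOf c) := by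
      refine coprime_prim ?_ (prim_of_mem_sylow P hc)
      refine Nat.Coprime.coprime_dvd_left ?_ (hs.coprime_iff_not_dvd.2 P.not_dvd_index).symm
      rw [hNP.index_eq_card, ← Subgroup.orderOf_mk b hb]
      exact orderOf_dvd_natCard _
    obtain ⟨i, hi⟩ := exists_pow_eq_self_of_coprime hco
    rw [← hi, show c ^ orderOf b = v' ^ orderOf b by
      rw [← hbc, (show Commute b c from hcomm b hb c hc).mul_pow, pow_orderOf_eq_one, one_mul]]
    exact Subgroup.pow_mem _ (Subgroup.pow_mem _ (Subgroup.mem_zpowers v') _) _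
  have hcm : cls c ≠ 1 := by
    intro e1
    have hv'Z : v' ∈ Subgroup.center H := by
      rw [← hbc]
      exact (Subgroup.center H).mul_mem hbZ (cls_eq_one_iff.1 e1)
    rw [cls_eq_one_iff.2 hv'Z] at hv'm
    have := h.hm; omega
  refine ⟨((c : K) : G), Prim.coe (Prim.coe (prim_of_mem_sylow P hc)), ?_⟩
  have hzy : ((c : K) : G) ∈ Subgroup.zpowers y := by
    obtain ⟨i, hi⟩ := Subgroup.mem_zpowers_iff.1 hcz
    obtain ⟨j, hj⟩ := Subgroup.mem_zpowers_iff.1 hv
    refine ⟨j * i, ?_⟩
    show y ^ (j * i) = _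
    have e : (c : K) = (⟨y, hyK⟩ : K) ^ (j * i) := by
      rw [zpow_mul, hj, ← hi]; simp [hv']
    rw [e, Subgroup.coe_zpow]
  refine (h.symm.of_dvd_n ?_).resolve_left fun e1 => hcm ?_
  · rw [← hym]; exact cls_dvd (cent_le_of_mem_zpowers hzy)
  · have hz := cls_eq_one_iff.1 e1
    rw [cls_eq_one_iff, Subgroup.mem_center_iff]
    exact fun g' => Subtype.ext (Subtype.ext (Subgroup.mem_center_iff.1 hz ((g' : K) : G)))

/-- Numeric lemma: some prime dividing `m` exceeds the centre in the centralizer of an element of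
class size `m`. -/
theorem exists_extra (hA : NoOwn G n) {g : G} (hg : cls g = m) :
    ∃ t : ℕ, t.Prime ∧ t ∣ m ∧ ∃ z ∈ cent g, Prim t z ∧ z ∉ Subgroup.center G := by
  classical
  by_contra hno
  push Not at hno
  set Z := Subgroup.center G with hZ
  have hgle : ∀ t : ℕ, t.Prime → t ∣ m →
      (Nat.card G).factorization t ≤ (Nat.card Z).factorization t + m.factorization t := by
    intro t ht htm
    haveI := Fact.mk ht
    have h1 : (Nat.card (cent g)).factorization t ≤ (Nat.card Z).factorization t := by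
      by_contra hlt
      push Not at hlt
      obtain ⟨e, he, hep, heZ⟩ := exists_prim_notMem Z (cent g) hlt
      exact heZ (hno t ht htm e he hep)
    have h2 := card_fac (cent g) t
    rw [show (cent g).index = m from hg] at h2
    omega
  obtain ⟨s, hs, x, hx, hxn⟩ := h.exists_primary_n
  have hxZ : x ∉ Z := h.notZ_of_cls (by rw [hxn]; exact (Nat.ne_of_gt h.hn))
  have hsm : s ∣ m := (h.prime_dvd hs hx hxZ).resolve_left (hA s x hs hx hxn)
  haveI := Fact.mk hs
  have hxle : ∀ q : ℕ, q.Prime → q ∣ n →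
      (Nat.card G).factorization q ≤ (Nat.card Z).factorization q + n.factorization q := by
    intro q hq hqn
    haveI := Fact.mk hq
    have h1 : (Nat.card (cent x)).factorization q ≤ (Nat.card Z).factorization q := by
      by_contra hlt
      push Not at hlt
      obtain ⟨e, he, hep, heZ⟩ := exists_prim_notMem Z (cent x) hlt
      have hlow : (Nat.card Z).factorization s < (Nat.card (cent e)).factorization s := by
        by_contra hle
        push Not at hle
        exact hxZ (mem_of_fac_le (center_le_cent e) hle (mem_cent_comm.1 he) hx)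
      have h2 := card_fac (cent e) s
      have h3 := hgle s hs hsm
      rcases h.cases e with e1 | e1 | e1 | e1
      · exact heZ (cls_eq_one_iff.1 e1)
      · exact hA q e hq hep e1 hqn
      · rw [show (cent e).index = m from e1] at h2; omega
      · rw [show (cent e).index = n * m from e1, Nat.factorization_mul (Nat.ne_zero_of_lt h.hn)
          (Nat.ne_zero_of_lt h.hm), Finsupp.add_apply] at h2
        omega
    have h2 := card_fac (cent x) q
    rw [show (cent x).index = n from hxn] at h2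
    omega
  obtain ⟨g₃, hg₃⟩ := h.exNM
  have heq : Z = cent g₃ := by
    refine eq_of_le_of_fac (center_le_cent g₃) fun q hq => ?_
    haveI := Fact.mk hq
    have h2 := card_fac (cent g₃) q
    rw [show (cent g₃).index = n * m from hg₃, Nat.factorization_mul (Nat.ne_zero_of_lt h.hn)
      (Nat.ne_zero_of_lt h.hm), Finsupp.add_apply] at h2
    by_cases hqn : q ∣ n
    · have := hxle q hq hqn; omega
    by_cases hqm : q ∣ m
    · have := hgle q hq hqm; omega
    by_contra hlt
    push Not at hlt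
    obtain ⟨e, -, hep, heZ⟩ := exists_prim_notMem Z (cent g₃) hlt
    exact (h.prime_dvd hq hep heZ).elim hqn hqm
  have hz : g₃ ∈ Z := heq ▸ self_mem_cent g₃
  rw [cls_eq_one_iff.2 hz] at hg₃
  have := Nat.mul_le_mul h.hn h.hm
  omega

/-- If no primary element owns its class size, then `n` is a prime power. -/
theorem n_prime_pow (hA : NoOwn G n) (hB : NoOwn G m) :
    ∃ r a : ℕ, r.Prime ∧ r ∣ n ∧ n = r ^ a ∧ ∃ y : G, Prim r y ∧ cls y = m := by
  obtain ⟨r, hr, y, hy, hym⟩ := h.symm.exists_primary_n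
  have hyZ : y ∉ Subgroup.center G := h.notZ_of_cls (by rw [hym]; exact (Nat.ne_of_gt h.hm))
  have hrn : r ∣ n := (h.prime_dvd hr hy hyZ).resolve_right (hB r y hr hy hym)
  refine ⟨r, _, hr, hrn, Nat.eq_prime_pow_of_unique_prime_dvd (Nat.ne_zero_of_lt h.hn)
    fun {q} hq hqn => ?_, y, hy, hym⟩
  by_contra hqr
  obtain ⟨t, ht, htm, z, hz, hzp, hzZ⟩ := h.exists_extra hA hym
  have hcore : Core (cent y) r n t q := {
    hr := hr
    hn := h.hn
    ht := ht
    hq := hq
    htr := fun e => hB r y hr hy hym (e ▸ htm)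
    hqr := hqr
    htn := fun htn => h.not_dvd_of_dvd ht htn htm
    hqn := hqn
    reg := fun k hk => by
      rw [cls_subgroup]
      refine h.symm.rel_cases hym k.2 ((coprime_prim ?_ hy).symm)
      rwa [Subgroup.orderOf_coe]
    exT := ⟨⟨z, hz⟩, Prim.mk hz hzp, fun hc => by
      have hle : cent y ≤ cent z := fun a ha =>
        mem_cent.2 (congrArg Subtype.val (Subgroup.mem_center_iff.1 hc ⟨a, ha⟩))
      rcases h.symm.of_dvd_n (hym ▸ cls_dvd hle) with e | e
      · exact hzZ (cls_eq_one_iff.1 e)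
      · exact hB t z ht hzp e htm⟩ }
  exact hcore.false

end Sizes

end Cfsg.Agent.Perm.CoprimeFour
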