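import Cfsg.Agent.Lib.Perm.CoprimeFour.Sizes
import Cfsg.Agent.Lib.Fusion.AB
import Cfsg.Agent.Lib.Solv.EPPOSeven.Basic
import Cfsg.Agent.Lib.Solv.Zipper

/-!
Class sizes `1, r^a, s^b, r^a s^b`: the group is nilpotent.
-/

set_option autoImplicit false
set_option linter.style.haveILetI false

namespace Cfsg.Agent.Perm.CoprimeFour

open Cfsg.Agent.Perm.CoprimeSizes

universe u

variable {G : Type u} [Group G] {n m r s a b : ℕ}

/-- The two-prime setting. -/
structure Two (G : Type u) [Group G] (n m r s a b : ℕ) : Prop where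
  sizes : Sizes G n m
  hr : r.Prime
  hs : s.Prime
  hna : n = r ^ a
  hmb : m = s ^ b

namespace Two

variable (h : Two G n m r s a b)
include h

theorem symm : Two G m n s r b a := ⟨h.sizes.symm, h.hs, h.hr, h.hmb, h.hna⟩

theorem r_dvd : r ∣ n := by
  rcases Nat.eq_zero_or_pos a with rfl | ha
  · have := h.sizes.hn; have := h.hna; simp at this; omega
  · exact h.hna ▸ dvd_pow_self r ha.ne'

theorem rs : r ≠ s := fun e =>
  h.sizes.not_dvd_of_dvd h.hr h.r_dvd (e ▸ h.symm.r_dvd)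

theorem eq_r_of_dvd {q : ℕ} (hq : q.Prime) (hd : q ∣ n) : q = r :=
  (Nat.prime_dvd_prime_iff_eq hq h.hr).1 (hq.dvd_of_dvd_pow (h.hna ▸ hd))

theorem fac_n (q : ℕ) (hq : q ≠ r) : n.factorization q = 0 := by
  rw [h.hna, h.hr.factorization_pow, Finsupp.single_eq_of_ne hq]

variable [Finite G]

theorem other_central {q : ℕ} (hq : q.Prime) (hr' : q ≠ r) (hs' : q ≠ s) {x : G} (hx : Prim q x) :
    x ∈ Subgroup.center G := by
  by_contra hxZ
  rcases h.sizes.prime_dvd hq hx hxZ with hd | hd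
  · exact hr' (h.eq_r_of_dvd hq hd)
  · exact hs' (h.symm.eq_r_of_dvd hq hd)

theorem solvable : Group.IsSolvable G := by
  have hq2 : Group.IsSolvable (G ⧸ Subgroup.center G) := by
    refine Solv.EPPOSeven.solvable_of_two_primes ?_
    refine le_trans (Finset.card_le_card (show (Nat.card (G ⧸ Subgroup.center G)).primeFactors ⊆ {r, s} from
      fun q hq => ?_)) Finset.card_le_two
    obtain ⟨hqp, hqd, -⟩ := Nat.mem_primeFactors.1 hq
    haveI := Fact.mk hqp
    simp only [Finset.mem_insert, Finset.mem_singleton]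
    by_contra hno
    push Not at hno
    have h1 := card_fac (Subgroup.center G) q
    have h2 : (Nat.card G).factorization q ≤ (Nat.card (Subgroup.center G)).factorization q := by
      by_contra hlt
      push Not at hlt
      rw [← Subgroup.card_top (G := G)] at hlt
      obtain ⟨e, -, hep, heZ⟩ := exists_prim_notMem (Subgroup.center G) ⊤ hlt
      exact heZ (h.other_central hqp hno.1 hno.2 hep)
    have h3 := hqp.factorization_pos_of_dvd Nat.card_pos.ne' hqd
    have h4 : Nat.card (G ⧸ Subgroup.center G) = (Subgroup.center G).index := rfl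
    rw [h4] at h3
    omega
  haveI := hq2
  haveI : Group.IsSolvable (Subgroup.center G) :=
    Group.isSolvable_of_comm fun c d => Subtype.ext (Subgroup.mem_center_iff.1 d.2 c)
  exact Group.isSolvable_of_ker_le_range (Subgroup.center G).subtype (QuotientGroup.mk' (Subgroup.center G))
    (by simp)

/-- An element centralizing both cores lies in the Fitting subgroup. -/
theorem mem_pCore [Fact r.Prime] {k : G} (hk : Prim r k)
    (hW : ∀ w ∈ Cfsg.pCore r G, Commute k w) (hV : ∀ v ∈ Cfsg.pCore s G, Commute k v) :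
    k ∈ Cfsg.pCore r G := by
  refine (Solv.pgroup_le_pCore_of_le_fitting hk.isPGroup ?_) (Subgroup.mem_zpowers k)
  rw [Subgroup.zpowers_le]
  refine Solv.centralizer_fitting_le h.solvable ?_
  have hle : Cfsg.fittingSubgroup G ≤ Subgroup.centralizer ({k} : Set G) := by
    rw [Solv.fitting_eq_iSup_pCore]
    refine iSup_le fun q x hx => mem_cent.2 ?_
    haveI := Fact.mk q.2
    by_cases hqr : (q : ℕ) = r
    · exact (hW x (hqr ▸ hx)).eq.symm
    by_cases hqs : (q : ℕ) = s
    · exact (hV x (hqs ▸ hx)).eq.symm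
    obtain ⟨i, hi⟩ := IsPGroup.iff_orderOf.1 (Solv.pCore_isPGroup (G := G) (q : ℕ)) ⟨x, hx⟩
    exact (Subgroup.mem_center_iff.1 (h.other_central q.2 hqr hqs
      ⟨i, by rw [← hi, Subgroup.orderOf_mk]⟩) k).symm
  exact Subgroup.mem_centralizer_iff.2 fun x hx => mem_cent.1 (hle hx)

theorem prim_of_pCore [Fact r.Prime] {w : G} (hw : w ∈ Cfsg.pCore r G) : Prim r w := by
  obtain ⟨k, hk⟩ := IsPGroup.iff_orderOf.1 (Solv.pCore_isPGroup (G := G) r) ⟨w, hw⟩
  exact ⟨k, by rw [← hk, Subgroup.orderOf_mk]⟩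

/-- The half of the commutator argument. -/
theorem comm_half [Fact r.Prime] [Fact s.Prime]
    (hR : ∀ u : G, Prim r u → ∀ v ∈ Cfsg.pCore s G, Commute u v)
    (hS : ∀ v : G, Prim s v → ∀ w ∈ Cfsg.pCore r G, Commute v w)
    {u v : G} (hu : Prim r u) (hv : Prim s v) : u * v * u⁻¹ * v⁻¹ ∈ Cfsg.pCore s G := by
  haveI := Solv.pCore_normal (G := G) r
  haveI := Solv.pCore_normal (G := G) s
  set W := Cfsg.pCore r G
  set V := Cfsg.pCore s G
  set c := u * v * u⁻¹ * v⁻¹ with hc
  set C₁ := Subgroup.centralizer (W : Set G)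
  set C₂ := Subgroup.centralizer (V : Set G)
  haveI : C₁.Normal := Subgroup.normal_centralizer
  haveI : C₂.Normal := Subgroup.normal_centralizer
  have hu2 : u ∈ C₂ := Subgroup.mem_centralizer_iff.2 fun x hx => (hR u hu x hx).eq.symm
  have hv1 : v ∈ C₁ := Subgroup.mem_centralizer_iff.2 fun x hx => (hS v hv x hx).eq.symm
  have hc1 : c ∈ C₁ := C₁.mul_mem (Subgroup.Normal.conj_mem inferInstance v hv1 u) (C₁.inv_mem hv1)
  have hc2 : c ∈ C₂ := by
    rw [hc, show u * v * u⁻¹ * v⁻¹ = u * (v * u⁻¹ * v⁻¹) by group]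
    exact C₂.mul_mem hu2 (Subgroup.Normal.conj_mem inferInstance u⁻¹ (C₂.inv_mem hu2) v)
  obtain ⟨c₁, c₂, hz1, hz2, hc12, hc1p, hc2p⟩ := Solv.exists_ppart r c
  obtain ⟨c₃, c₄, hz3, hz4, hc34, hc3p, hc4p⟩ := Solv.exists_ppart s c₂
  have hmem : ∀ {D : Subgroup G} {e : G}, c ∈ D → e ∈ Subgroup.zpowers c → e ∈ D :=
    fun hD he => mem_of_zpowers_mem hD he
  have hz3' : c₃ ∈ Subgroup.zpowers c := Subgroup.zpowers_le.2 hz2 hz3
  have hz4' : c₄ ∈ Subgroup.zpowers c := Subgroup.zpowers_le.2 hz2 hz4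
  have hc1W : c₁ ∈ W := h.mem_pCore hc1p
    (fun w hw => ((Subgroup.mem_centralizer_iff.1 (hmem hc1 hz1) w hw).symm :))
    (fun w hw => ((Subgroup.mem_centralizer_iff.1 (hmem hc2 hz1) w hw).symm :))
  have hc3V : c₃ ∈ V := h.symm.mem_pCore hc3p
    (fun w hw => ((Subgroup.mem_centralizer_iff.1 (hmem hc2 hz3') w hw).symm :))
    (fun w hw => ((Subgroup.mem_centralizer_iff.1 (hmem hc1 hz3') w hw).symm :))
  have hc4Z : c₄ ∈ Subgroup.center G := by
    by_contra hne
    obtain ⟨q, hq, e, he, hep, heZ⟩ := exists_noncentral_part hne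
    have hd1 : orderOf e ∣ orderOf c₄ := by
      obtain ⟨i, rfl⟩ := Subgroup.mem_zpowers_iff.1 he
      exact orderOf_dvd_of_pow_eq_one (by
        rw [← zpow_natCast, ← zpow_mul, mul_comm, zpow_mul, zpow_natCast, pow_orderOf_eq_one, one_zpow])
    have hd2 : orderOf c₄ ∣ orderOf c₂ := by
      obtain ⟨i, rfl⟩ := Subgroup.mem_zpowers_iff.1 hz4
      exact orderOf_dvd_of_pow_eq_one (by
        rw [← zpow_natCast, ← zpow_mul, mul_comm, zpow_mul, zpow_natCast, pow_orderOf_eq_one, one_zpow])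
    have he1 : e ≠ 1 := fun e1 => heZ (e1 ▸ one_mem _)
    refine heZ (h.other_central hq (fun e' => he1 ?_) (fun e' => he1 ?_) hep)
    · exact eq_one_of_prim_coprime (e' ▸ hep) ((hc2p.coprime_dvd_left hd2).coprime_dvd_left hd1)
    · exact eq_one_of_prim_coprime (e' ▸ hep) (hc4p.coprime_dvd_left hd1)
  set h₁ := c₁ * c₄ with hh₁
  set h₂ := c₃ * v with hh₂
  have e : h₁ * h₂ = u * v * u⁻¹ := by
    rw [hh₁, hh₂, show c₁ * c₄ * (c₃ * v) = c₁ * (c₄ * c₃) * v by group,
      ← Subgroup.mem_center_iff.1 hc4Z c₃, hc34, hc12, hc]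
    group
  have hcomm : Commute h₁ h₂ := by
    have e1 : Commute c₁ c₃ := comm_of_mem_zpowers hz1 hz3'
    have e2 : Commute c₁ v := (hS v hv c₁ hc1W).symm
    have e3 : ∀ g : G, Commute c₄ g := fun g => ((Subgroup.mem_center_iff.1 hc4Z g).symm :)
    exact (e1.mul_right e2).mul_left (e3 _)
  have hh2p : Prim s h₂ := by
    have hpg : IsPGroup s ↥(V ⊔ Subgroup.zpowers v) :=
      (Solv.pCore_isPGroup (G := G) s).to_sup_of_normal_left hv.isPGroup
    obtain ⟨k, hk⟩ := IsPGroup.iff_orderOf.1 hpg ⟨h₂, Subgroup.mul_mem _ (Subgroup.mem_sup_left hc3V)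
      (Subgroup.mem_sup_right (Subgroup.mem_zpowers v))⟩
    exact ⟨k, by rw [← hk, Subgroup.orderOf_mk]⟩
  have hh1 : h₁ = 1 := by
    refine orderOf_eq_one_iff.1 ?_
    obtain ⟨i, hi⟩ := Prim.map h.hs (MulAut.conj u).toMonoidHom hv
    obtain ⟨j, hj⟩ := hh2p
    have hhp : (h₁ * h₂) ^ s ^ i = 1 := by
      rw [e, ← hi]; exact pow_orderOf_eq_one _
    have h1 : h₁ ^ (s ^ i * s ^ j) = 1 := by
      have h2 : h₂ ^ (s ^ i * s ^ j) = 1 := by
        rw [mul_comm, pow_mul, ← hj, pow_orderOf_eq_one, one_pow]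
      have h3 := congrArg (· ^ s ^ j) hhp
      simp only [one_pow, ← pow_mul] at h3
      rwa [hcomm.mul_pow, h2, mul_one] at h3
    have hco : (orderOf h₁).Coprime s := by
      obtain ⟨l, hl⟩ := hc1p
      have hd : orderOf (c₁ * c₄) ∣ Nat.lcm (orderOf c₁) (orderOf c₄) :=
        Commute.orderOf_mul_dvd_lcm ((Subgroup.mem_center_iff.1 hc4Z c₁ :))
      refine Nat.Coprime.coprime_dvd_left (hd.trans (Nat.lcm_dvd_mul _ _)) ?_
      refine Nat.Coprime.mul_left ?_ hc4p
      rw [hl]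
      exact Nat.Coprime.pow_left l ((Nat.coprime_primes h.hr h.hs).2 h.rs)
    exact Nat.eq_one_of_dvd_coprimes (hco.pow_right (i + j)) dvd_rfl
      (by rw [pow_add]; exact orderOf_dvd_of_pow_eq_one h1)
  rw [hh1, one_mul, hh₂] at e
  have : c₃ = c := by
    rw [hc, ← e, mul_inv_cancel_right]
  exact this ▸ hc3V

theorem nilpotent_of_comm (hc : ∀ u v : G, Prim r u → Prim s v → Commute u v) : Group.IsNilpotent G := by
  refine ((Group.isNilpotent_of_finite_tfae (G := G)).out 0 3).2 fun p hp P => ?_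
  haveI := hp
  rw [← Subgroup.normalizer_eq_top_iff]
  refine eq_top_of_sylows _ fun q hq _ => ?_
  haveI := Fact.mk hq
  by_cases hqp : q = p
  · subst hqp
    exact ⟨P, Subgroup.le_normalizer⟩
  obtain ⟨Q⟩ : Nonempty (Sylow q G) := inferInstance
  refine ⟨Q, fun x hx => Subgroup.centralizer_le_normalizer _
    (Subgroup.mem_centralizer_iff.2 fun y hy => ?_)⟩
  have hxq := prim_of_mem_sylow Q hx
  have hyp := prim_of_mem_sylow P hy
  by_cases hxc : x ∈ Subgroup.center G
  · exact Subgroup.mem_center_iff.1 hxc y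
  by_cases hyc : y ∈ Subgroup.center G
  · exact (Subgroup.mem_center_iff.1 hyc x).symm
  have h1 : q = r ∨ q = s := by
    by_contra hno
    push Not at hno
    exact hxc (h.other_central hq hno.1 hno.2 hxq)
  have h2 : p = r ∨ p = s := by
    by_contra hno
    push Not at hno
    exact hyc (h.other_central hp.out hno.1 hno.2 hyp)
  rcases h1 with rfl | rfl <;> rcases h2 with rfl | rfl
  · exact absurd rfl hqp
  · exact (hc x y hxq hyp).eq.symm
  · exact (hc y x hyp hxq).eq
  · exact absurd rfl hqp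

theorem nilpotent_of_cent
    (hR : ∀ u : G, Prim r u → ∀ v ∈ Cfsg.pCore s G, Commute u v)
    (hS : ∀ v : G, Prim s v → ∀ w ∈ Cfsg.pCore r G, Commute v w) : Group.IsNilpotent G := by
  haveI := Fact.mk h.hr
  haveI := Fact.mk h.hs
  refine h.nilpotent_of_comm fun u v hu hv => ?_
  have h1 := h.comm_half hR hS hu hv
  have h2 := h.symm.comm_half hS hR hv hu
  have h3 : u * v * u⁻¹ * v⁻¹ ∈ Cfsg.pCore r G := by
    have := (Cfsg.pCore r G).inv_mem h2
    rwa [show (v * u * v⁻¹ * u⁻¹)⁻¹ = u * v * u⁻¹ * v⁻¹ by group] at this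
  have h4 := eq_one_of_prim_coprime (h.prim_of_pCore h3)
    ((h.symm.prim_of_pCore h1).coprime_prime h.hs h.hr h.rs.symm)
  exact mul_inv_eq_iff_eq_mul.1 (mul_inv_eq_one.1 h4)

/-- The case of an element with own class size. -/
theorem cent_caseA {x : G} (hx : Prim r x) (hxn : cls x = n) {v : G} (hv : Prim s v)
    {w : G} (hw : w ∈ Cfsg.pCore r G) : Commute v w := by
  haveI := Fact.mk h.hr
  haveI := Fact.mk h.hs
  haveI := Solv.pCore_normal (G := G) r
  set W := Cfsg.pCore r G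
  obtain ⟨R, hxR⟩ := exists_sylow_of_prim hx
  have hnd : ¬ s ∣ cls x := by rw [hxn]; exact fun hd => h.rs.symm (h.eq_r_of_dvd h.hs hd)
  have hxW : x ∈ W := by
    have hcl : Subgroup.normalClosure ({x} : Set G) ≤ (R : Subgroup G) := by
      refine (Subgroup.closure_le _).2 fun y hy => ?_
      obtain ⟨z, hz, hzy⟩ := Group.mem_conjugatesOfSet_iff.1 hy
      rw [Set.mem_singleton_iff] at hz
      subst hz
      obtain ⟨g, rfl⟩ := isConj_iff.1 hzy
      have hco : (cent z).index.Coprime (R : Subgroup G).index := by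
        rw [show (cent z).index = r ^ a from hxn.trans h.hna]
        exact Nat.Coprime.pow_left a (h.hr.coprime_iff_not_dvd.2 R.not_dvd_index)
      obtain ⟨k, hk, c, hc, rfl⟩ := Solv.exists_mul_of_coprime_index hco g
      rw [show k * c * z * (k * c)⁻¹ = k * (c * z) * c⁻¹ * k⁻¹ by group, mem_cent.1 hc,
        show k * (z * c) * c⁻¹ * k⁻¹ = k * z * k⁻¹ by group]
      exact Subgroup.mul_mem _ (Subgroup.mul_mem _ hk hxR) (Subgroup.inv_mem _ hk)
    exact (Solv.normal_le_pCore (R.isPGroup'.to_le hcl)) (Subgroup.subset_normalClosure rfl)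
  -- conjugate `v` into the centralizer of `x`
  obtain ⟨g, hg⟩ := exists_conj_comm hv hnd
  set x' := g * x * g⁻¹ with hx'
  have hxp' : Prim r x' := Prim.map h.hr (MulAut.conj g).toMonoidHom hx
  have hxn' : cls x' = n := by rw [hx', cls_conj, hxn]
  have hA2 := (h.sizes.caseA h.hr hxp' hxn' h.r_dvd).1
  have hxW' : x' ∈ W := Subgroup.Normal.conj_mem inferInstance x hxW g
  have hres : v ∈ Subgroup.centralizer (W : Set G) := by
    refine Fusion.mem_centralizer_of_AB (p := r) (Q := W) (T := Subgroup.zpowers x')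
      (Solv.pCore_isPGroup r) hxp'.isPGroup ?_ ?_ ?_ (hv.coprime_prime h.hs h.hr h.rs.symm) ?_
    · rw [Subgroup.normalizer_eq_top_iff.2 inferInstance]; exact le_top
    · rw [Subgroup.normalizer_eq_top_iff.2 inferInstance]; exact Subgroup.mem_top v
    · exact fun t ht => mem_cent.1 (cent_le_of_mem_zpowers ht hg)
    · intro q hq hqt
      exact (hA2 v hg (hv.coprime_prime h.hs h.hr h.rs.symm) q
        (mem_cent.2 (hqt x' (Subgroup.mem_zpowers x'))) (h.prim_of_pCore hq)).eq
  exact (Subgroup.mem_centralizer_iff.1 hres w hw).symm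

section Neither

variable (hA : NoOwn G n) (hB : NoOwn G m)
include hA hB

theorem cls_r {u : G} (hu : Prim r u) (huZ : u ∉ Subgroup.center G) :
    cls u = m ∨ cls u = n * m := by
  rcases h.sizes.cases u with e | e | e | e
  · exact absurd (cls_eq_one_iff.1 e) huZ
  · exact absurd h.r_dvd (hA r u h.hr hu e)
  · exact Or.inl e
  · exact Or.inr e

theorem fac_s {u : G} (hu : Prim r u) (huZ : u ∉ Subgroup.center G) :
    (Nat.card (cent u)).factorization s + m.factorization s = (Nat.card G).factorization s := by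
  have h1 := card_fac (cent u) s
  rcases h.cls_r hA hB hu huZ with e | e
  · rwa [show (cent u).index = m from e] at h1
  · rwa [show (cent u).index = n * m from e, Nat.factorization_mul (Nat.ne_zero_of_lt h.sizes.hn)
      (Nat.ne_zero_of_lt h.sizes.hm), Finsupp.add_apply, h.fac_n s h.rs.symm, zero_add] at h1

theorem exists_s {u : G} (hu : Prim r u) (huZ : u ∉ Subgroup.center G) :
    ∃ z ∈ cent u, Prim s z ∧ z ∉ Subgroup.center G := by
  haveI := Fact.mk h.hs
  obtain ⟨g, hg⟩ := h.sizes.exM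
  obtain ⟨t, ht, htm, z, hz, hzp, hzZ⟩ := h.sizes.exists_extra hA hg
  obtain rfl := h.symm.eq_r_of_dvd ht htm
  refine exists_prim_notMem _ _ ?_
  have h1 := h.fac_s hA hB hu huZ
  have h2 := card_fac (cent g) t
  rw [show (cent g).index = m from hg] at h2
  by_contra hle
  push Not at hle
  exact hzZ (mem_of_fac_le (center_le_cent g) (by omega) hz hzp)

omit hA hB in
theorem minimal {u k : G} (hu : Prim r u) (hun : cls u = n * m) (hk : Prim s k) (hku : k ∈ cent u) :
    cent u ≤ cent k := by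
  have hco := hu.coprime h.hr h.hs h.rs hk
  have hc := cent_mul_of_coprime (mem_cent.1 hku).symm hco
  have hle : cent (u * k) ≤ cent u := hc ▸ inf_le_left
  have hd : n * m ∣ cls (u * k) := hun ▸ cls_dvd hle
  have hpos : 0 < n * m := hun ▸ cls_pos u
  have hnm : cls (u * k) = n * m := by
    rcases h.sizes.cases (u * k) with e | e | e | e <;> rw [e] at hd ⊢
    · have := Nat.le_of_dvd one_pos hd; omega
    · have := Nat.le_of_dvd (Nat.zero_lt_of_lt h.sizes.hn) hd
      have := h.sizes.hn; have := h.sizes.hm; nlinarith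
    · have := Nat.le_of_dvd (Nat.zero_lt_of_lt h.sizes.hm) hd
      have := h.sizes.hn; have := h.sizes.hm; nlinarith
  rw [cent_eq_of_le hle (by rw [hnm, hun]), hc]
  exact inf_le_right

theorem cent_W {u : G} (hu : Prim r u) {w : G} (hw : w ∈ Cfsg.pCore r G) : Commute u w := by
  haveI := Fact.mk h.hr
  haveI := Fact.mk h.hs
  haveI := Solv.pCore_normal (G := G) r
  set W := Cfsg.pCore r G with hWdef
  by_cases huZ : u ∈ Subgroup.center G
  · exact (Subgroup.mem_center_iff.1 huZ w).symm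
  suffices hsub : W ≤ cent u from (mem_cent.1 (hsub hw)).symm
  have hWfac : ∀ H : Subgroup G, (Nat.card W).factorization r ≤ (Nat.card ↥(W ⊓ H)).factorization r →
      W ≤ H := by
    intro H hle
    obtain ⟨k, hk⟩ := IsPGroup.iff_card.1 (Solv.pCore_isPGroup (G := G) r)
    have : W ⊓ H = W := eq_of_le_of_fac inf_le_left fun q hq => by
      by_cases hqr : q = r
      · subst hqr; exact hle
      · rw [hWdef, hk, h.hr.factorization_pow, Finsupp.single_eq_of_ne hqr]; exact Nat.zero_le _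
    exact this ▸ inf_le_right
  rcases h.cls_r hA hB hu huZ with hum | hunm
  · -- full Sylow subgroup
    obtain ⟨P, hP⟩ := NilpotentHall.exists_sylow_le (p := r) (H := cent u) (by
      show ¬ r ∣ cls u
      rw [hum]; exact h.sizes.not_dvd_of_dvd h.hr h.r_dvd)
    have hpg : IsPGroup r ↥((P : Subgroup G) ⊔ W) := P.isPGroup'.to_sup_of_normal_right (Solv.pCore_isPGroup r)
    exact le_trans (le_sup_right.trans (P.is_maximal' hpg le_sup_left).le) hP
  · obtain ⟨z, hz, hzp, hzZ⟩ := h.exists_s hA hB hu huZ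
    have hle := h.minimal hu hunm hzp hz
    have hWz : W ≤ cent z := by
      have hres : z ∈ Subgroup.centralizer (W : Set G) := by
        refine Fusion.mem_centralizer_of_AB (p := r) (Q := W) (T := Subgroup.zpowers u)
          (Solv.pCore_isPGroup r) hu.isPGroup ?_ ?_ ?_ (hzp.coprime_prime h.hs h.hr h.rs.symm) ?_
        · rw [Subgroup.normalizer_eq_top_iff.2 inferInstance]; exact le_top
        · rw [Subgroup.normalizer_eq_top_iff.2 inferInstance]; exact Subgroup.mem_top z
        · exact fun t ht => mem_cent.1 (cent_le_of_mem_zpowers ht hz)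
        · exact fun q _ hqt => (mem_cent.1 (hle (mem_cent.2 (hqt u (Subgroup.mem_zpowers u))))).symm
      exact fun x hx => mem_cent.2 (Subgroup.mem_centralizer_iff.1 hres x hx)
    rcases h.symm.cls_r hB hA hzp hzZ with hzn | hznm
    · refine hWfac _ ?_
      have h1 := Solv.card_sup_mul_card_inf W (cent u)
      have h2 := congrArg (fun t => t.factorization r) h1
      simp only [Nat.factorization_mul Nat.card_pos.ne' Nat.card_pos.ne', Finsupp.add_apply] at h2
      have h3 := fac_mono (sup_le hWz hle : W ⊔ cent u ≤ cent z) r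
      have h4 := card_fac (cent z) r
      have h5 := card_fac (cent u) r
      rw [show (cent z).index = n from hzn] at h4
      rw [show (cent u).index = n * m from hunm, Nat.factorization_mul (Nat.ne_zero_of_lt h.sizes.hn)
        (Nat.ne_zero_of_lt h.sizes.hm), Finsupp.add_apply, h.symm.fac_n r h.rs] at h5
      omega
    · exact hWz.trans (h.symm.minimal hzp hznm hu (mem_cent_comm.1 hz))

/-- All `r`-elements lie in the core. -/
theorem mem_W {u : G} (hu : Prim r u) : u ∈ Cfsg.pCore r G := by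
  classical
  haveI := Fact.mk h.hr
  haveI := Fact.mk h.hs
  haveI := Solv.pCore_normal (G := G) r
  haveI := Solv.pCore_normal (G := G) s
  set W := Cfsg.pCore r G with hWdef
  set V := Cfsg.pCore s G with hVdef
  set Z := Subgroup.center G with hZdef
  by_contra huW
  obtain ⟨R, huR⟩ := exists_sylow_of_prim hu
  -- central modulo the core
  set π := QuotientGroup.mk' W with hπ
  have hπ1 : ∀ {x : G}, π x = 1 ↔ x ∈ W := fun {x} => QuotientGroup.eq_one_iff x
  have hPp : IsPGroup r ↥((R : Subgroup G).map π) := R.isPGroup'.map π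
  haveI : Nontrivial ↥((R : Subgroup G).map π) := by
    rw [Subgroup.nontrivial_iff_ne_bot, Ne, Subgroup.map_eq_bot_iff, QuotientGroup.ker_mk']
    exact fun hle => huW (hle huR)
  haveI : Nontrivial (Subgroup.center ↥((R : Subgroup G).map π)) := hPp.center_nontrivial
  obtain ⟨d, hd⟩ := exists_ne (1 : Subgroup.center ↥((R : Subgroup G).map π))
  obtain ⟨τ, hτR, hτd⟩ := Subgroup.mem_map.1 (d : ↥((R : Subgroup G).map π)).2
  have hτW : τ ∉ W := fun hm => hd (Subtype.ext (Subtype.ext (by rw [← hτd]; exact hπ1.2 hm)))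
  have hτp := prim_of_mem_sylow R hτR
  have hcentr : ∀ g ∈ (R : Subgroup G), (τ * g)⁻¹ * (g * τ) ∈ W := by
    intro g hg
    refine hπ1.1 ?_
    have e := congrArg Subtype.val (Subgroup.mem_center_iff.1 d.2 ⟨π g, Subgroup.mem_map_of_mem π hg⟩)
    simp only [Subgroup.coe_mul] at e
    rw [map_mul, map_inv, map_mul, map_mul, hτd, e, inv_mul_cancel]
  have hτV : ∃ v ∈ V, ¬ Commute τ v := by
    by_contra hno
    push Not at hno
    exact hτW (h.mem_pCore hτp (fun w hw => h.cent_W hA hB hτp hw) hno)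
  have hτZ : τ ∉ Z := fun hz => by
    obtain ⟨v, -, hv⟩ := hτV
    exact hv (Subgroup.mem_center_iff.1 hz v).symm
  have hsV : ∀ v : G, Prim s v → ∀ x ∈ V, Commute v x := fun v hv x hx => h.symm.cent_W hB hA hv hx
  have hVp : ∀ x ∈ V, Prim s x := fun x hx => h.symm.prim_of_pCore hx
  have hsdvd : ∀ {x : G}, ∀ S : Sylow s G, (S : Subgroup G) ≤ cent x → ¬ s ∣ cls x := fun S hS hd' =>
    S.not_dvd_index (hd'.trans (Subgroup.index_dvd_of_le hS))
  have hV_n : ∀ v ∈ V, v ∉ Z → cls v = n := by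
    intro v hv hvZ
    refine (h.symm.cls_r hB hA (hVp v hv) hvZ).resolve_right fun e => ?_
    obtain ⟨S⟩ : Nonempty (Sylow s G) := inferInstance
    exact hsdvd S (fun x hx => mem_cent.2 (hsV x (prim_of_mem_sylow S hx) v hv).eq)
      (e ▸ Dvd.dvd.mul_right h.symm.r_dvd n)
  -- a commuting element of class size `n`
  obtain ⟨a₀, ha₀, ha₀p, ha₀Z⟩ := h.exists_s hA hB hτp hτZ
  obtain ⟨e₁, he₁, he₁p, he₁n⟩ : ∃ e : G, e ∈ cent τ ∧ Prim s e ∧ cls e = n := by
    rcases h.symm.cls_r hB hA ha₀p ha₀Z with e | e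
    · exact ⟨a₀, ha₀, ha₀p, e⟩
    obtain ⟨q, hq, x, hx, hxn⟩ := h.sizes.exists_primary_n
    have hxZ : x ∉ Z := h.sizes.notZ_of_cls (by rw [hxn]; exact Nat.ne_of_gt h.sizes.hn)
    obtain rfl : q = s := h.symm.eq_r_of_dvd hq
      ((h.sizes.prime_dvd hq hx hxZ).resolve_left (hA q x hq hx hxn))
    obtain ⟨g, hg⟩ := exists_conj_comm (x := a₀) ha₀p (y := x) (by
      rw [hxn]; exact fun hd' => h.rs.symm (h.eq_r_of_dvd h.hs hd'))
    refine ⟨g * x * g⁻¹, ?_, Prim.map h.hs (MulAut.conj g).toMonoidHom hx, by rw [cls_conj, hxn]⟩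
    have hle := h.symm.minimal ha₀p e hτp (mem_cent_comm.1 ha₀)
    exact hle (mem_cent_comm.1 hg)
  have he₁Z : e₁ ∉ Z := h.sizes.notZ_of_cls (by rw [he₁n]; exact Nat.ne_of_gt h.sizes.hn)
  -- `τ` fixes a noncentral element of `V`
  obtain ⟨v₁, hv₁, hv₁Z, hτv₁⟩ : ∃ v ∈ V, v ∉ Z ∧ Commute τ v := by
    by_cases hVZ : ∃ v₀ ∈ V, v₀⁻¹ * e₁ ∈ Z
    · obtain ⟨v₀, hv₀, hz⟩ := hVZ
      refine ⟨v₀, hv₀, fun h0 => he₁Z (by
        rw [show e₁ = v₀ * (v₀⁻¹ * e₁) by group]; exact Z.mul_mem h0 hz), ?_⟩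
      have e1 : Commute τ (e₁ * (v₀⁻¹ * e₁)⁻¹) :=
        (show Commute τ e₁ from (mem_cent.1 he₁).symm).mul_right
          (((Subgroup.mem_center_iff.1 (Z.inv_mem hz) τ) :))
      rwa [show e₁ * (v₀⁻¹ * e₁)⁻¹ = v₀ by group] at e1
    · push Not at hVZ
      exfalso
      obtain ⟨S, hS, -⟩ := exists_sylow_central he₁p (by
        rw [he₁n]; exact fun hd' => h.rs.symm (h.eq_r_of_dvd h.hs hd'))
      set πV := QuotientGroup.mk' V with hπV
      set H := (cent (πV e₁)).comap πV with hH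
      have hcH : cent e₁ ≤ H := fun x hx => by
        rw [hH, Subgroup.mem_comap, mem_cent, ← map_mul, ← map_mul, mem_cent.1 hx]
      have hH1 : H = cent e₁ := by
        refine (eq_of_le_of_fac hcH fun q hq => ?_).symm
        haveI := Fact.mk hq
        have h1 := card_fac (cent e₁) q
        rw [show (cent e₁).index = n from he₁n] at h1
        have h2 := fac_mono (le_top : H ≤ ⊤) q
        rw [Subgroup.card_top] at h2
        by_cases hqr : q = r
        · subst hqr
          obtain ⟨D₀⟩ : Nonempty (Sylow q H) := inferInstance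
          set D := (D₀ : Subgroup H).map H.subtype with hD
          have hDH : D ≤ H := Subgroup.map_subtype_le _
          have hDp : IsPGroup q D := D₀.isPGroup'.map _
          let X := {x : G // e₁⁻¹ * x ∈ V}
          letI : MulAction D X :=
            { smul := fun g x => ⟨g * x.1 * (g : G)⁻¹, by
                have hg : πV g * πV e₁ = πV e₁ * πV g := mem_cent.1 (Subgroup.mem_comap.1 (hDH g.2))
                have hx : πV x.1 = πV e₁ := ((QuotientGroup.eq).2 x.2).symm
                refine (QuotientGroup.eq).1 ?_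
                show πV e₁ = πV ((g : G) * x.1 * (g : G)⁻¹)
                rw [map_mul, map_mul, map_inv, hx, hg, mul_inv_cancel_right]⟩
              one_smul := fun x => Subtype.ext (by
                show ((1 : D) : G) * x.1 * ((1 : D) : G)⁻¹ = x.1
                simp)
              mul_smul := fun g g' x => Subtype.ext (by
                show ((g * g' : D) : G) * x.1 * ((g * g' : D) : G)⁻¹ =
                  g * ((g' : G) * x.1 * (g' : G)⁻¹) * (g : G)⁻¹
                simp [mul_assoc]) }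
          have hXc : Nat.card X = Nat.card V := Nat.card_congr
            ⟨fun x => ⟨e₁⁻¹ * x.1, x.2⟩, fun v => ⟨e₁ * v, by simp⟩,
              fun x => Subtype.ext (by simp), fun v => Subtype.ext (by simp)⟩
          haveI : Nonempty X := ⟨⟨e₁, by simp⟩⟩
          obtain ⟨e₂, he₂⟩ := hDp.nonempty_fixed_point_of_prime_not_dvd_card (α := X) (by
            rw [hXc]
            obtain ⟨k, hk⟩ := IsPGroup.iff_card.1 (Solv.pCore_isPGroup (G := G) s)
            rw [hVdef, hk]
            exact fun hd' => h.rs ((Nat.prime_dvd_prime_iff_eq hq h.hs).1 (hq.dvd_of_dvd_pow hd')))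
          have hDle : D ≤ cent e₂.1 := by
            intro g hg
            have e2 : g * e₂.1 * g⁻¹ = e₂.1 := congrArg Subtype.val (he₂ ⟨g, hg⟩)
            exact mem_cent.2 (mul_inv_eq_iff_eq_mul.1 e2)
          have he₂Z : e₂.1 ∉ Z := fun hz => hVZ (e₁⁻¹ * e₂.1)⁻¹ (V.inv_mem e₂.2) (by
            rw [inv_inv, show e₁⁻¹ * e₂.1 * e₁ = e₁⁻¹ * (e₂.1 * e₁) by group,
              ← Subgroup.mem_center_iff.1 hz e₁, inv_mul_cancel_left]
            exact hz)
          have he₂p : Prim s e₂.1 := by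
            have hpg : IsPGroup s ↥(V ⊔ Subgroup.zpowers e₁) :=
              (Solv.pCore_isPGroup (G := G) s).to_sup_of_normal_left he₁p.isPGroup
            obtain ⟨k, hk⟩ := IsPGroup.iff_orderOf.1 hpg ⟨e₂.1, by
              have := Subgroup.mul_mem (V ⊔ Subgroup.zpowers e₁)
                (Subgroup.mem_sup_right (Subgroup.mem_zpowers e₁)) (Subgroup.mem_sup_left e₂.2)
              rwa [mul_inv_cancel_left] at this⟩
            exact ⟨k, by rw [← hk, Subgroup.orderOf_mk]⟩
          have h3 := h.symm.fac_s hB hA he₂p he₂Z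
          have h4 := fac_mono hDle q
          rw [hD, Subgroup.card_map_of_injective H.subtype_injective, D₀.card_eq_multiplicity,
            Nat.Prime.factorization_pow hq, Finsupp.single_eq_same] at h4
          omega
        · rw [h.fac_n q hqr] at h1
          omega
      obtain ⟨v, hv, hτv⟩ := hτV
      apply hτv
      have hne : e₁ * v ∉ Z := fun hz => hVZ v⁻¹ (V.inv_mem hv) (by
        rw [inv_inv, ← (hsV e₁ he₁p v hv).eq]; exact hz)
      have hle : cent (e₁ * v) ≤ cent e₁ := by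
        intro g hg
        rw [← hH1, hH, Subgroup.mem_comap, mem_cent]
        have e1 := congrArg πV (mem_cent.1 hg)
        have hv1 : πV v = 1 := (QuotientGroup.eq_one_iff v).2 hv
        simpa [map_mul, hv1] using e1
      have hSle : (S : Subgroup G) ≤ cent (e₁ * v) := fun g hg =>
        mem_cent.2 ((show Commute g e₁ from mem_cent.1 (hS hg)).mul_right
          (hsV g (prim_of_mem_sylow S hg) v hv)).eq
      have hevp : Prim s (e₁ * v) := by
        obtain ⟨i, hi⟩ := he₁p
        obtain ⟨j, hj⟩ := hVp v hv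
        obtain ⟨k, -, hk⟩ := (Nat.dvd_prime_pow h.hs).1
          (((hsV e₁ ⟨i, hi⟩ v hv).orderOf_mul_dvd_lcm).trans (by
            rw [hi, hj]
            exact Nat.lcm_dvd (pow_dvd_pow s (le_max_left i j)) (pow_dvd_pow s (le_max_right i j))))
        exact ⟨k, hk⟩
      have hcn : cls (e₁ * v) = n := (h.symm.cls_r hB hA hevp hne).resolve_right fun e =>
        hsdvd S hSle (e ▸ Dvd.dvd.mul_right h.symm.r_dvd n)
      have he : cent e₁ = cent (e₁ * v) := cent_eq_of_le hle (by rw [hcn, he₁n])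
      have e2 : Commute τ (e₁ * v) := (mem_cent.1 (he ▸ mem_cent_comm.1 he₁ : τ ∈ cent (e₁ * v)) :)
      have e3 : Commute τ e₁ := (mem_cent.1 he₁).symm
      have := e3.inv_right.mul_right e2
      rwa [inv_mul_cancel_left] at this
  -- the commutator map with `τ`
  let φ : G → G := fun v => τ * v * τ⁻¹ * v⁻¹
  have hφV : ∀ v ∈ V, φ v ∈ V := fun v hv =>
    V.mul_mem (Subgroup.Normal.conj_mem inferInstance v hv τ) (V.inv_mem hv)
  have hVab : ∀ v ∈ V, ∀ v' ∈ V, Commute v v' := fun v hv v' hv' => hsV v (hVp v hv) v' hv'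
  have hφmul : ∀ v ∈ V, ∀ v' ∈ V, φ (v * v') = φ v * φ v' := by
    intro v hv v' hv'
    calc φ (v * v') = (τ * v * τ⁻¹) * φ v' * v⁻¹ := by simp only [φ]; group
      _ = (τ * v * τ⁻¹) * (φ v' * v⁻¹) := mul_assoc _ _ _
      _ = (τ * v * τ⁻¹) * (v⁻¹ * φ v') := by rw [(hVab _ (hφV v' hv') _ (V.inv_mem hv)).eq]
      _ = φ v * φ v' := by simp only [φ]; group
  have hφ0 : ∀ v, φ v = 1 ↔ Commute τ v := fun v =>
    ⟨fun e => mul_inv_eq_iff_eq_mul.1 (mul_inv_eq_one.1 e), fun e => by
      simp only [φ]; rw [e.eq]; group⟩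
  have hinjφ : ∀ v ∈ V, φ (φ v) = 1 → φ v = 1 := by
    intro v hv e
    have hc : Commute τ (φ v) := (hφ0 _).1 e
    have key : ∀ k : ℕ, τ ^ k * v * (τ ^ k)⁻¹ = φ v ^ k * v := by
      intro k
      induction k with
      | zero => simp
      | succ k ih =>
        calc τ ^ (k + 1) * v * (τ ^ (k + 1))⁻¹ = τ * (τ ^ k * v * (τ ^ k)⁻¹) * τ⁻¹ := by
              rw [pow_succ']; group
          _ = (τ * φ v ^ k) * v * τ⁻¹ := by rw [ih]; group
          _ = φ v ^ k * (τ * v * τ⁻¹) := by rw [(hc.pow_right k).eq]; group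
          _ = φ v ^ (k + 1) * v := by rw [pow_succ]; simp only [φ]; group
    have h1 := key (orderOf τ)
    rw [pow_orderOf_eq_one, inv_one, one_mul, mul_one] at h1
    exact orderOf_eq_one_iff.1 (Nat.eq_one_of_dvd_coprimes
      (hτp.coprime h.hr h.hs h.rs (hVp _ (hφV v hv))).symm dvd_rfl
      (orderOf_dvd_of_pow_eq_one (mul_eq_right.1 h1.symm)))
  have hφconj : ∀ g ∈ (R : Subgroup G), ∀ v ∈ V, φ (g * v * g⁻¹) = g * φ v * g⁻¹ := by
    intro g hg v hv
    set ω := (τ * g)⁻¹ * (g * τ) with hω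
    have hωv : Commute ω v := by
      have hωR : ω ∈ W := hcentr g hg
      exact (Subgroup.commute_of_normal_of_disjoint W V inferInstance inferInstance (by
        refine Subgroup.disjoint_def.2 fun {x} h1 h2 => ?_
        exact eq_one_of_prim_coprime (h.prim_of_pCore h1)
          ((h.symm.prim_of_pCore h2).coprime_prime h.hs h.hr h.rs.symm)) ω v hωR hv)
    have e : g * τ = τ * g * ω := by rw [hω]; group
    simp only [φ]
    calc τ * (g * v * g⁻¹) * τ⁻¹ * (g * v * g⁻¹)⁻¹
        = τ * g * (v * (ω * ω⁻¹)) * (τ * g)⁻¹ * (g * v * g⁻¹)⁻¹ := by group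
      _ = τ * g * (ω * v) * ω⁻¹ * (τ * g)⁻¹ * (g * v * g⁻¹)⁻¹ := by rw [hωv.eq]; group
      _ = (τ * g * ω) * v * (τ * g * ω)⁻¹ * (g * v * g⁻¹)⁻¹ := by group
      _ = g * (τ * v * τ⁻¹ * v⁻¹) * g⁻¹ := by rw [← e]; group
  -- stabilizers in `R`
  have hstab : ∀ v ∈ V, v ∉ Z → (Nat.card ↥((R : Subgroup G) ⊓ cent v)).factorization r + a =
      (Nat.card G).factorization r := by
    intro v hv hvZ
    have hn' : n.factorization r = a := by rw [h.hna, Nat.factorization_pow_self h.hr]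
    have h1 := card_fac (cent v) r
    rw [show (cent v).index = n from hV_n v hv hvZ, hn'] at h1
    have h2 := fac_mono (inf_le_right : (R : Subgroup G) ⊓ cent v ≤ cent v) r
    have h3 : Nat.card ↥((R : Subgroup G) ⊓ cent v) * (cent v).relIndex (R : Subgroup G) =
        Nat.card (R : Subgroup G) := by
      rw [← Subgroup.relIndex_bot_left, ← Subgroup.relIndex_bot_left,
        ← Subgroup.inf_relIndex_left (R : Subgroup G) (cent v)]
      exact Subgroup.relIndex_mul_relIndex _ _ _ bot_le inf_le_left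
    have hdR : (cent v).relIndex (R : Subgroup G) ∣ Nat.card (R : Subgroup G) := Dvd.intro_left _ h3
    rw [R.card_eq_multiplicity] at hdR
    obtain ⟨j, -, hj⟩ := (Nat.dvd_prime_pow h.hr).1 hdR
    have hle : (cent v).relIndex (R : Subgroup G) ≤ (cent v).index :=
      Subgroup.relIndex_le_of_le_right le_top (by
        rw [Subgroup.relIndex_top_right]; exact Subgroup.index_ne_zero_of_finite) |>.trans_eq
        (Subgroup.relIndex_top_right _)
    rw [hj, show (cent v).index = n from hV_n v hv hvZ, h.hna] at hle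
    have hja : j ≤ a := (Nat.pow_le_pow_iff_right h.hr.one_lt).1 hle
    have h5 := congrArg (fun t => t.factorization r) h3
    rw [Nat.factorization_mul Nat.card_pos.ne' (by rw [hj]; exact pow_ne_zero _ h.hr.ne_zero),
      Finsupp.add_apply, hj, Nat.factorization_pow_self h.hr, R.card_eq_multiplicity,
      Nat.factorization_pow_self h.hr] at h5
    omega
  have hstab_eq : ∀ v ∈ V, v ∉ Z → ∀ v' ∈ V, v' ∉ Z →
      (R : Subgroup G) ⊓ cent v ≤ (R : Subgroup G) ⊓ cent v' →
      (R : Subgroup G) ⊓ cent v = (R : Subgroup G) ⊓ cent v' := by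
    intro v hv hvZ v' hv' hvZ' hle
    refine eq_of_le_of_fac hle fun q hq => ?_
    by_cases hqr : q = r
    · subst hqr
      have := hstab v hv hvZ
      have := hstab v' hv' hvZ'
      omega
    · have := fac_mono (inf_le_left : (R : Subgroup G) ⊓ cent v' ≤ R) q
      rw [R.card_eq_multiplicity, h.hr.factorization_pow, Finsupp.single_eq_of_ne hqr] at this
      omega
  obtain ⟨v, hv, hτv⟩ := hτV
  set v₂ := φ v with hv₂
  have hv₂V : v₂ ∈ V := hφV v hv
  have hv₂1 : v₂ ≠ 1 := fun e => hτv ((hφ0 v).1 e)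
  have hv₂φ : φ v₂ ≠ 1 := fun e => hv₂1 (hinjφ v hv e)
  have hφ1 : φ v₁ = 1 := (hφ0 _).2 hτv₁
  have hφ12 : φ (v₁ * v₂) = φ v₂ := by rw [hφmul v₁ hv₁ v₂ hv₂V, hφ1, one_mul]
  have hZφ : ∀ x ∈ Z, φ x = 1 := fun x hx => (hφ0 x).2 ((Subgroup.mem_center_iff.1 hx τ :))
  have hv₂Z : v₂ ∉ Z := fun hz => hv₂φ (hZφ _ hz)
  have h12Z : v₁ * v₂ ∉ Z := fun hz => hv₂φ (hφ12 ▸ hZφ _ hz)
  have h12V : v₁ * v₂ ∈ V := V.mul_mem hv₁ hv₂V
  have hle2 : (R : Subgroup G) ⊓ cent (v₁ * v₂) ≤ (R : Subgroup G) ⊓ cent v₂ := by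
    rintro g ⟨hgR, hg⟩
    refine ⟨hgR, mem_cent.2 ?_⟩
    have e0 : g * (v₁ * v₂) * g⁻¹ = v₁ * v₂ := mul_inv_eq_iff_eq_mul.2 (mem_cent.1 hg)
    have hgv : g * v * g⁻¹ ∈ V := Subgroup.Normal.conj_mem inferInstance v hv g
    set u₀ := g * v * g⁻¹ * v⁻¹ with hu₀
    have hu₀V : u₀ ∈ V := V.mul_mem hgv (V.inv_mem hv)
    have e1 : φ u₀ = g * v₂ * g⁻¹ * v₂⁻¹ := by
      have h1 := hφmul _ hu₀V v hv
      rw [hu₀, inv_mul_cancel_right, hφconj g hgR v hv, ← hu₀] at h1
      rw [hv₂, h1]; group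
    have e2 : φ (φ u₀) = 1 := by
      have h1 := hφmul _ (hφV _ hu₀V) v₂ hv₂V
      rw [e1, inv_mul_cancel_right, hφconj g hgR v₂ hv₂V] at h1
      have e4 : g * φ v₂ * g⁻¹ = φ v₂ := by
        rw [← hφ12, ← hφconj g hgR _ h12V, e0]
      rw [e4] at h1
      rw [e1]
      exact mul_eq_right.1 h1.symm
    have e3 := hinjφ _ hu₀V e2
    rw [e1] at e3
    exact mul_inv_eq_iff_eq_mul.1 (mul_inv_eq_one.1 e3)
  have hle1 : (R : Subgroup G) ⊓ cent (v₁ * v₂) ≤ (R : Subgroup G) ⊓ cent v₁ := by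
    rintro g ⟨hgR, hg⟩
    refine ⟨hgR, mem_cent.2 ?_⟩
    have e1 : Commute g (v₁ * v₂) := mem_cent.1 hg
    have e2 : Commute g v₂ := mem_cent.1 (hle2 ⟨hgR, hg⟩).2
    have := e1.mul_right e2.inv_right
    rwa [mul_inv_cancel_right] at this
  have hτ2 : τ ∈ (R : Subgroup G) ⊓ cent v₂ := by
    rw [← hstab_eq _ h12V h12Z _ hv₂V hv₂Z hle2, hstab_eq _ h12V h12Z _ hv₁ hv₁Z hle1]
    exact ⟨hτR, mem_cent.2 hτv₁.eq⟩
  exact hv₂φ ((hφ0 _).2 (mem_cent.1 hτ2.2))

theorem nilpotent_neither : Group.IsNilpotent G := by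
  haveI := Fact.mk h.hr
  haveI := Fact.mk h.hs
  haveI := Solv.pCore_normal (G := G) r
  haveI := Solv.pCore_normal (G := G) s
  refine h.nilpotent_of_comm fun u v hu hv => ?_
  refine Subgroup.commute_of_normal_of_disjoint (Cfsg.pCore r G) (Cfsg.pCore s G) inferInstance inferInstance
    (Subgroup.disjoint_def.2 fun {x} h1 h2 => ?_) u v (h.mem_W hA hB hu) (h.symm.mem_W hB hA hv)
  exact eq_one_of_prim_coprime (h.prim_of_pCore h1)
    ((h.symm.prim_of_pCore h2).coprime_prime h.hs h.hr h.rs.symm)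

end Neither

end Two

/-- Class sizes `1, n, m, n m` with coprime `n, m`. -/
theorem main [Finite G] (h : Sizes G n m) :
    Group.IsNilpotent G ∧ IsPrimePow n ∧ IsPrimePow m := by
  have hpp : ∀ {k p e : ℕ}, p.Prime → 1 < k → k = p ^ e → IsPrimePow k := by
    intro k p e hp hk he
    rcases Nat.eq_zero_or_pos e with rfl | he0
    · simp at he; omega
    · exact he ▸ hp.isPrimePow.pow he0.ne'
  by_cases hex : NoOwn G n ∧ NoOwn G m
  · obtain ⟨hA, hB⟩ := hex
    obtain ⟨r, a, hr, -, hna, -⟩ := h.n_prime_pow hA hB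
    obtain ⟨s, b, hs, -, hmb, -⟩ := h.symm.n_prime_pow hB hA
    have ht : Two G n m r s a b := ⟨h, hr, hs, hna, hmb⟩
    exact ⟨ht.nilpotent_neither hA hB, hpp hr h.hn hna, hpp hs h.hm hmb⟩
  -- some primary element owns its class size
  have hown : ∀ {n m : ℕ}, Sizes G n m → ∀ (q : ℕ) (x : G), q.Prime → Prim q x → cls x = n → q ∣ n →
      Group.IsNilpotent G ∧ IsPrimePow n ∧ IsPrimePow m := by
    intro n m h q x hq hx hxn hqn
    obtain ⟨-, s, b, hs, hsm, hmb, z, hz, hzm⟩ := h.caseA hq hx hxn hqn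
    obtain ⟨-, r, a, hr, hrn, hna, -⟩ := h.symm.caseA hs hz hzm hsm
    have ht : Two G n m r s a b := ⟨h, hr, hs, hna, hmb⟩
    obtain rfl := ht.eq_r_of_dvd hq hqn
    refine ⟨ht.nilpotent_of_cent ?_ ?_, hpp hr h.hn hna, hpp hs h.hm hmb⟩
    · exact fun u hu v hv => ht.symm.cent_caseA hz hzm hu hv
    · exact fun v hv w hw => ht.cent_caseA hx hxn hv hw
  simp only [not_and_or, NoOwn, not_forall, not_not, exists_prop] at hex
  rcases hex with ⟨q, x, hq, hx, hxn, hqn⟩ | ⟨q, x, hq, hx, hxn, hqn⟩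
  · exact hown h q x hq hx hxn hqn
  · obtain ⟨h1, h2, h3⟩ := hown h.symm q x hq hx hxn hqn
    exact ⟨h1, h3, h2⟩

end Cfsg.Agent.Perm.CoprimeFour
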